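import Groth.Agent.Lib.HomSheaf.Basic
import Groth.Agent.Lib.Ample.Basis
import Groth.Agent.Lib.AssPt.Basic
import Groth.Agent.Lib.AssPt.Modules
import Groth.Agent.Lib.ModelFibre.MaxPoint
import Groth.Agent.Lib.Flat55.GenericPoints
import Groth.Agent.H52.FBase.NoEmb
import Mathlib.Algebra.Category.ModuleCat.Biproducts
import Mathlib.RingTheory.Artinian.Module

/-!
# Mapping a module generically isomorphically into a sum of powers of an ample module
-/

set_option autoImplicit false
set_option linter.style.haveILetI false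

noncomputable section

universe u

open CategoryTheory CategoryTheory.Limits AlgebraicGeometry TopologicalSpace Opposite
open scoped TensorProduct

namespace Groth.Agent.Lib.TFNodal.TwistEmbed

open Groth.Agent.Lib Groth.Agent.Lib.TensorMod.Basic Groth.Agent.Lib.TensorMod.Dual
open Groth.Agent.Lib.Modules.StalkModule (stalkMapₗ stalkModFunctor)
open Groth.Agent.Lib.Ample.GenLocus Groth.Agent.Lib.Ample.Extend Groth.Agent.Lib.Ample.Pow
open Groth.Agent.Lib.TensorMod.Gen

attribute [local instance] HasFiniteBiproducts.of_hasFiniteProducts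

variable {X : Scheme.{u}}

theorem finite_genericPoints [NoetherianSpace X] : (genericPoints X).Finite :=
  ((TopologicalSpace.NoetherianSpace.finite_irreducibleComponents (α := X)).preimage
    (f := fun η : X => closure ({η} : Set X)) (fun a _ b _ e => by
      exact ((specializes_iff_mem_closure.2 ((show closure ({a} : Set X) = closure {b} from e) ▸ subset_closure rfl : a ∈ closure {b})).antisymm
        (specializes_iff_mem_closure.2 ((show closure ({b} : Set X) = closure {a} from e.symm) ▸ subset_closure rfl : b ∈ closure {a}))).eq.symm)).subset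
    fun η hη => hη

theorem isField_of_genericPoint [IsReduced X] {η : X} (hη : η ∈ genericPoints X) :
    IsField (X.presheaf.stalk η) :=
  ModelFibre.MaxPoint.isField_stalk fun _ hy => Flat55.GenericPoints.eq_of_specializes hη hy

theorem mem_genericPoints_of_isField [IsReduced X] {η : X} (h : IsField (X.presheaf.stalk η)) :
    η ∈ genericPoints X := by
  refine Flat55.GenericPoints.mem_of_forall_specializes fun y hy => ?_
  refine (AssPt.Basic.maxAssoc_iff_maximalPoint η).1
    (H52.FBase.NoEmb.maxAssoc_iff.2 ⟨1, one_ne_zero, fun a ha => ⟨1, ?_⟩⟩) y hy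
  rw [IsLocalRing.isField_iff_maximalIdeal_eq.1 h, Ideal.mem_bot] at ha
  rw [ha, pow_one, zero_mul]

/-- Pairing with a generator of an invertible module is bijective on stalks. -/
theorem pair_bijective {L : X.Modules} {U : X.Opens} {e : Γ(L, U)} (he : IsGen L U e) {x : X}
    (hx : x ∈ U) (H : X.Modules) :
    Function.Bijective fun v : H.presheaf.stalk x => RefHull.Tensor.pair x v (L.presheaf.germ U x hx e) := by
  have hb := H34.UFDExt.Gen.IsGen.stalk_bijective (M := L) (fun W h => he W h) hx
  let ε : X.presheaf.stalk x ≃ₗ[X.presheaf.stalk x] L.presheaf.stalk x :=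
    LinearEquiv.ofBijective (LinearMap.toSpanSingleton _ _ (L.presheaf.germ U x hx e)) hb
  let Φ : H.presheaf.stalk x ≃ₗ[X.presheaf.stalk x] (CohB1.tensorMod H L).presheaf.stalk x :=
    (TensorProduct.rid _ _).symm ≪≫ₗ TensorProduct.congr (LinearEquiv.refl _ _) ε ≪≫ₗ
      (RefHull.Tensor.tStalk H L x).symm
  convert Φ.bijective with v
  show _ = (RefHull.Tensor.tStalk H L x).symm
    (TensorProduct.congr (LinearEquiv.refl _ _) ε ((TensorProduct.rid _ _).symm v))
  rw [TensorProduct.rid_symm_apply, TensorProduct.congr_tmul]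
  exact congrArg (fun t => (RefHull.Tensor.tStalk H L x).symm (v ⊗ₜ t)) (one_smul (X.presheaf.stalk x) _).symm

theorem exists_stalkEquiv_tensorPow {L : X.Modules} (hL : PicF.IsInvertible L) (m : ℕ) (x : X) :
    Nonempty ((CohB1.tensorPow L m).presheaf.stalk x ≃ₗ[X.presheaf.stalk x] X.presheaf.stalk x) := by
  obtain ⟨U, e, hx, he⟩ := isInvertible_iff.1 (TensorMod.Invertible.isInvertible_tensorPow hL m) x
  exact ⟨(LinearEquiv.ofBijective (LinearMap.toSpanSingleton _ _ _)
    (H34.UFDExt.Gen.IsGen.stalk_bijective (M := CohB1.tensorPow L m) (fun W h => he W h) hx)).symm⟩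

/-- The stalk of a finite sum of powers of an invertible module is free. -/
theorem exists_stalkEquiv_sum {L : X.Modules} (hL : PicF.IsInvertible L) (m r : ℕ) (x : X) :
    Nonempty ((∐ fun _ : Fin r => CohB1.tensorPow L m).presheaf.stalk x ≃ₗ[X.presheaf.stalk x]
      (Fin r → X.presheaf.stalk x)) := by
  obtain ⟨e⟩ := exists_stalkEquiv_tensorPow hL m x
  let S := stalkModFunctor X x
  haveI : Limits.PreservesFiniteBiproducts S := inferInstance
  let E := (S.mapIso (biproduct.isoCoproduct (fun _ : Fin r => CohB1.tensorPow L m)).symm ≪≫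
    S.mapBiproduct _ ≪≫ ModuleCat.biproductIsoPi _).toLinearEquiv
  exact ⟨E ≪≫ₗ LinearEquiv.piCongrRight fun _ => e⟩

/-- A cokernel has zero stalk exactly where the stalk map is onto. -/
theorem subsingleton_stalk_cokernel_iff {M N : X.Modules} (f : M ⟶ N) (x : X) :
    Subsingleton ((cokernel f).presheaf.stalk x) ↔ Function.Surjective (stalkMapₗ f x) := by
  let S := stalkModFunctor X x
  let e := (PreservesCokernel.iso S f).toLinearEquiv
  have h : Epi (S.map f) ↔ Function.Surjective (stalkMapₗ f x) := ModuleCat.epi_iff_surjective _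
  rw [← h]
  constructor
  · intro hs
    exact Preadditive.epi_of_isZero_cokernel _
      (haveI : Subsingleton (S.obj (cokernel f)) := hs; haveI := e.symm.toEquiv.subsingleton; ModuleCat.isZero_of_subsingleton _)
  · intro he
    exact e.toEquiv.subsingleton_congr.2
      (ModuleCat.subsingleton_of_isZero (isZero_cokernel_of_epi (S.map f)))

/-- An injective map between free modules of the same rank over a field is onto. -/
theorem surjective_of_injective {A : Type u} [CommRing A] (hA : IsField A) {M N : Type u}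
    [AddCommGroup M] [Module A M] [AddCommGroup N] [Module A N] {r : ℕ}
    (eM : M ≃ₗ[A] (Fin r → A)) (eN : N ≃ₗ[A] (Fin r → A)) (f : M →ₗ[A] N)
    (hf : Function.Injective f) : Function.Surjective f := by
  letI := hA.toField
  haveI : IsArtinianRing A := inferInstance
  have hg := IsArtinian.surjective_of_injective_endomorphism
    (eN.toLinearMap ∘ₗ f ∘ₗ eM.symm.toLinearMap) (eN.injective.comp (hf.comp eM.symm.injective))
  intro y
  obtain ⟨a, ha⟩ := hg (eN y)
  exact ⟨eM.symm a, eN.injective ha⟩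

/-- Local sections of the dual, near each of finitely many separated points, glue. -/
theorem exists_sections [IsLocallyNoetherian X] [NoetherianSpace X] {F : X.Modules}
    (hF : Coh.IsCoh F) {ι : Type} [Finite ι]
    (c : ∀ η : genericPoints X, ι → (F.presheaf.stalk η.1 →ₗ[X.presheaf.stalk η.1]
      (Coh.structureModule X).presheaf.stalk η.1)) :
    ∃ (U : X.Opens) (hU : genericPoints X ⊆ U)
      (σ : ι → Γ(_root_.RefHull.homSh F (Coh.structureModule X), U)),
      ∀ (η : genericPoints X) (i : ι), (σ i).1 ⟨η.1, hU η.2⟩ = c η i := by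
  classical
  let Hs := _root_.RefHull.homSh F (Coh.structureModule X)
  haveI := Fintype.ofFinite ι
  have hsec : ∀ (η : genericPoints X) (i : ι), ∃ (V : X.Opens) (hV : η.1 ∈ V) (g : Γ(Hs, V)),
      g.1 ⟨η.1, hV⟩ = c η i := fun η i => by
    obtain ⟨v, hv⟩ := (RefHull.HomSh.evalStalk_bijective (G := Coh.structureModule X) hF η.1).2 (c η i)
    obtain ⟨V, hV, g, hg⟩ := TopCat.Presheaf.exists_germ_eq Hs.presheaf v
    exact ⟨V, hV, g, by rw [← hv, ← hg, _root_.RefHull.evalStalk_germ]⟩
  choose V hV g hg using hsec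
  haveI : Finite (genericPoints X) := finite_genericPoints.to_subtype
  let C : genericPoints X → Set X := fun η => ⋃ ξ ∈ genericPoints X \ {η.1}, closure {ξ}
  have hCc : ∀ η, IsClosed (C η) := fun η =>
    (finite_genericPoints.subset Set.sdiff_subset).isClosed_biUnion fun _ _ => isClosed_closure
  have hηC : ∀ η : genericPoints X, η.1 ∉ C η := fun η h => by
    obtain ⟨ξ, hξ, hz⟩ := Set.mem_iUnion₂.1 h
    exact hξ.2 (Flat55.GenericPoints.eq_of_specializes η.2 (specializes_iff_mem_closure.2 hz))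
  let W : genericPoints X → X.Opens := fun η =>
    ⟨(C η)ᶜ, (hCc η).isOpen_compl⟩ ⊓ Finset.univ.inf (V η)
  have hW : ∀ η : genericPoints X, η.1 ∈ W η := fun η => by
    refine ⟨hηC η, ?_⟩
    rw [SetLike.mem_coe, ← SetLike.mem_coe, Opens.coe_finset_inf, Finset.inf_set_eq_iInter]
    exact Set.mem_iInter₂.2 fun i _ => hV η i
  have hdisj : ∀ η η' : genericPoints X, η ≠ η' → W η ⊓ W η' ≤ ⊥ := fun η η' hne z hz => by
    obtain ⟨ξ, hξ, hξz⟩ := Flat55.GenericPoints.exists_specializes z
    exfalso
    have h : ∀ e : genericPoints X, z ∈ W e → ξ = e.1 := fun e he => by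
      by_contra hne'
      exact he.1 (Set.mem_iUnion₂.2 ⟨ξ, ⟨hξ, hne'⟩, hξz.mem_closure⟩)
    exact hne (Subtype.ext ((h η hz.1).symm.trans (h η' hz.2)))
  let U : X.Opens := iSup W
  refine ⟨U, fun x hx => Opens.mem_iSup.2 ⟨⟨x, hx⟩, hW ⟨x, hx⟩⟩, ?_⟩
  have hWV : ∀ η i, W η ≤ V η i := fun η i =>
    inf_le_right.trans (Finset.inf_le (Finset.mem_univ i))
  let τ : ∀ i η, Γ(Hs, W η) := fun i η => rs Hs (hWV η i) (g η i)
  have hglue : ∀ i, ∃ s : Γ(Hs, U), ∀ η, rs Hs (le_iSup W η) s = τ i η := fun i => by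
    have hc : TopCat.Presheaf.IsCompatible Hs.presheaf W (τ i) := fun η η' => by
      rcases eq_or_ne η η' with rfl | hne
      · rfl
      · haveI : Subsingleton (Γ(Hs, W η ⊓ W η')) := by
          rw [le_bot_iff.1 (hdisj η η' hne)]
          exact ⟨fun a b => Modules.Support.eq_zero_of_germ_eq_zero (a - b) (fun x hx _ => hx.elim) |>
            sub_eq_zero.1⟩
        exact Subsingleton.elim _ _
    obtain ⟨s, hs, -⟩ := TopCat.Sheaf.existsUnique_gluing' (⟨Hs.presheaf, Hs.isSheaf⟩ : TopCat.Sheaf Ab.{u} X)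
      W U (fun η => homOfLE (le_iSup W η)) le_rfl (τ i) hc
    exact ⟨s, hs⟩
  choose σ hσ using hglue
  refine ⟨σ, fun η i => ?_⟩
  rw [← hg η i]
  exact congrArg (fun s : Γ(Hs, W η) => s.1 ⟨η.1, hW η⟩) (hσ i η)

/-- The core construction: morphisms to a power of an ample module with prescribed kernels at the
generic points. -/
theorem exists_twist_hom [IsNoetherian X] {L : X.Modules} (hL : CohB1.IsAmple L)
    {F : X.Modules} (hF : Coh.IsCoh F) {r : ℕ}
    (c : ∀ η : genericPoints X, Fin r → (F.presheaf.stalk η.1 →ₗ[X.presheaf.stalk η.1]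
      (Coh.structureModule X).presheaf.stalk η.1)) :
    ∃ (m : ℕ) (φ : Fin r → (F ⟶ CohB1.tensorPow L m)),
      ∀ (η : genericPoints X) (i : Fin r) (v : F.presheaf.stalk η.1),
        stalkMapₗ (φ i) η.1 v = 0 → c η i v = 0 := by
  let G := Coh.structureModule X
  let Hs := _root_.RefHull.homSh F G
  obtain ⟨U, hU, σ, hσ⟩ := exists_sections hF c
  obtain ⟨N, -, s, hs, hsU, -⟩ := Ample.Basis.exists_locus_of_finite hL _ finite_genericPoints U hU
  have hLN : PicF.IsInvertible (CohB1.tensorPow L N) := TensorMod.Invertible.isInvertible_tensorPow hL.1 N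
  haveI : Hs.IsQuasicoherent := RefHull.HomSh.isQCoh_homSh hF
    (TensorMod.QCohInv.isQCoh_structureModule X)
  obtain ⟨n, hn⟩ := (Filter.eventually_all.2 fun i : Fin r =>
    eventually_extension (F := Hs) hLN s (rs Hs hsU (σ i))).exists
  choose t ht using hn
  let L' := CohB1.tensorPow (CohB1.tensorPow L N) n
  let ε : CohB1.tensorMod G L' ≅ CohB1.tensorPow L (N * n) := leftUnit L' ≪≫ powMul L N n
  let φ₀ : Fin r → (F ⟶ CohB1.tensorMod G L') := fun i =>
    HomSheaf.Basic.topEquiv.symm ((HomSheaf.Basic.tens F G L').app ⊤ (t i))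
  refine ⟨N * n, fun i => φ₀ i ≫ ε.hom, fun η i v hv => ?_⟩
  have hv0 : stalkMapₗ (φ₀ i) η.1 v = 0 := by
    refine (Modules.StalkModule.stalkLinearEquiv ε η.1).injective ?_
    rw [map_zero]
    exact (RefHull.Colim.stalkMap_comp (φ₀ i) ε.hom η.1 v).symm.trans hv
  obtain ⟨U₀, hηU₀, hgen⟩ := (mem_genLocus_iff s).1 (hs η.2)
  let U₁ : X.Opens := CohB1.genLocus _ s ⊓ U₀
  have hη₁ : η.1 ∈ U₁ := ⟨hs η.2, hηU₀⟩
  have hle : U₁ ≤ U := inf_le_left.trans hsU
  let e₁ : Γ(L', U₁) := powSec (sv s U₁) n
  have he₁ : IsGen L' U₁ e₁ := isGen_powSec (by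
    have := hgen.res (inf_le_right : U₁ ≤ U₀)
    rwa [rs_sv] at this) n
  have h1 : rs _ (le_top : U₁ ≤ ⊤) (t i) =
      SecTwist.tmul Hs L' U₁ (rs Hs hle (σ i)) e₁ := by
    rw [← rs_rs _ (le_top : CohB1.genLocus _ s ≤ ⊤) (inf_le_left : U₁ ≤ CohB1.genLocus _ s), ht i,
      rs_twist, rs_rs]
    exact congrArg (SecTwist.tmul Hs L' U₁ _) (pow_eq_powSec s U₁ n)
  have h2 : (CohB1.tensorMod Hs L').presheaf.germ ⊤ η.1 trivial (t i) =
      RefHull.Tensor.pair η.1 (Hs.presheaf.germ U₁ η.1 hη₁ (rs Hs hle (σ i)))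
        (L'.presheaf.germ U₁ η.1 hη₁ e₁) := by
    rw [RefHull.Tensor.pair_germ hη₁, ← h1]
    exact (TopCat.Presheaf.germ_res_apply _ _ _ _ _).symm
  have h3 : stalkMapₗ (φ₀ i) η.1 =
      ((RefHull.Tensor.pair η.1).flip (L'.presheaf.germ U₁ η.1 hη₁ e₁)).comp (c η i) := by
    refine (RefHull.Colim.stalkMap_toHom _ η.1).trans ?_
    refine ((_root_.RefHull.evalStalk_germ (U := (⊤ : X.Opens)) F (CohB1.tensorMod G L') η.1 trivial
      ((HomSheaf.Basic.tens F G L').app ⊤ (t i))).symm.trans ?_)
    rw [← _root_.RefHull.stalkMapₗ_germ, h2, HomSheaf.Basic.evalStalk_tens,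
      _root_.RefHull.evalStalk_germ, ← hσ η i]
    rfl
  rw [h3] at hv0
  exact (pair_bijective he₁ hη₁ G).1 (hv0.trans (by simp))

theorem mem_genericPoints_of_not_isClosed (hdim : topologicalKrullDim X ≤ 1) {y : X}
    (hy : ¬ IsClosed ({y} : Set X)) : y ∈ genericPoints X := by
  refine Flat55.GenericPoints.mem_of_forall_specializes fun z hz => ?_
  by_contra hne
  obtain ⟨x, hxy, hxne⟩ : ∃ x, x ∈ closure ({y} : Set X) ∧ x ≠ y := by
    by_contra hc
    push Not at hc
    exact hy (closure_subset_iff_isClosed.1 fun x hx => hc x hx)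
  let c : X → IrreducibleCloseds X := fun a => ⟨closure {a}, isIrreducible_singleton.closure, isClosed_closure⟩
  have hlt : ∀ a b : X, a ⤳ b → a ≠ b → c b < c a := fun a b hab hne => by
    refine lt_of_le_of_ne (specializes_iff_closure_subset.1 hab) fun h => hne ?_
    have h' : closure ({b} : Set X) = closure {a} := congrArg (fun s : IrreducibleCloseds X => (s : Set X)) h
    exact (hab.antisymm (specializes_iff_closure_subset.2 h'.ge)).eq
  let p : LTSeries (IrreducibleCloseds X) :=
    { length := 2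
      toFun := ![c x, c y, c z]
      step := fun i => by
        fin_cases i
        · exact hlt y x (specializes_iff_mem_closure.2 hxy) hxne.symm
        · exact hlt z y hz hne }
  have h2 := (Order.LTSeries.length_le_krullDim p).trans hdim
  change ((2 : ℕ) : WithBot ℕ∞) ≤ 1 at h2
  exact absurd h2 (by norm_num)

/-- A module without closed associated points, free of rank `r` at the generic points, embeds in `r`
copies of a power of an ample module with torsion cokernel. -/
theorem exists_embedding [IsNoetherian X] [IsReduced X] (hdim : topologicalKrullDim X ≤ 1)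
    {L : X.Modules} (hL : CohB1.IsAmple L) {F : X.Modules} (hF : Coh.IsCoh F) (r : ℕ)
    (hass : ∀ x : X, IsClosed ({x} : Set X) → ¬ Curv2.IsAssPoint F x)
    (hgen : ∀ η : X, IsField (X.presheaf.stalk η) →
      Nonempty (F.presheaf.stalk η ≃ₗ[X.presheaf.stalk η] (Fin r → X.presheaf.stalk η))) :
    ∃ (m : ℕ) (ι : F ⟶ ∐ fun _ : Fin r => CohB1.tensorPow L m), Mono ι ∧
      ∀ η : X, IsField (X.presheaf.stalk η) → Subsingleton ((cokernel ι).presheaf.stalk η) := by
  choose e he using fun η : genericPoints X =>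
    (show ∃ e : F.presheaf.stalk η.1 ≃ₗ[X.presheaf.stalk η.1] (Fin r → X.presheaf.stalk η.1), True from
      ⟨(hgen η.1 (isField_of_genericPoint η.2)).some, trivial⟩)
  obtain ⟨m, φ, hφ⟩ := exists_twist_hom hL hF (fun η i =>
    (AssPt.Basic.unitStalkEquiv η.1).toLinearMap ∘ₗ LinearMap.proj i ∘ₗ (e η).toLinearMap)
  let I := biproduct.isoCoproduct (fun _ : Fin r => CohB1.tensorPow L m)
  let ι : F ⟶ ∐ fun _ : Fin r => CohB1.tensorPow L m := biproduct.lift φ ≫ I.hom
  have hιφ : ∀ j, ι ≫ (I.inv ≫ biproduct.π _ j) = φ j := fun j => by simp [ι]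
  have hinj : ∀ η ∈ genericPoints X, Function.Injective (stalkMapₗ ι η) := fun η hη => by
    rw [injective_iff_map_eq_zero]
    intro v hv
    refine (e ⟨η, hη⟩).injective ?_
    rw [map_zero]
    funext i
    have h0 : stalkMapₗ (φ i) η v = 0 := by
      rw [← hιφ i]
      refine (RefHull.Colim.stalkMap_comp ι _ η v).trans ?_
      rw [show _root_.RefHull.stalkMapₗ ι η v = 0 from hv, map_zero]
    exact (AssPt.Basic.unitStalkEquiv η).injective ((hφ ⟨η, hη⟩ i v h0).trans (map_zero _).symm)
  refine ⟨m, ι, ?_, fun η hη => ?_⟩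
  · haveI := hF.1
    have hq : (kernel ι).IsQuasicoherent := by
      haveI : (∐ fun _ : Fin r => CohB1.tensorPow L m).IsQuasicoherent := QCoh.Closure.isQCoh_of_isColimit
        (colimit.isColimit (Discrete.functor fun _ : Fin r => CohB1.tensorPow L m)) fun _ =>
        TensorMod.QCohInv.isQCoh_of_isInvertible (TensorMod.Invertible.isInvertible_tensorPow hL.1 m)
      exact QCoh.Closure.isQCoh_kernel ι
    haveI := hq
    refine Preadditive.mono_of_isZero_kernel _ (AssPt.Modules.isZero_iff_no_assPoint.2 fun y hy => ?_)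
    have hk : Function.Injective (stalkMapₗ (kernel.ι ι) y) :=
      (Modules.StalkModule.mono_iff_stalkMapₗ_injective _).1 inferInstance y
    have hyF : Curv2.IsAssPoint F y := IsAssociatedPrime.map_of_injective (stalkMapₗ (kernel.ι ι) y) hy hk
    have hyg : y ∈ genericPoints X :=
      mem_genericPoints_of_not_isClosed hdim fun hc => hass y hc hyF
    refine AssPt.Modules.nontrivial_stalk_of_assPoint hy ⟨fun a b => hk (hinj y hyg ?_)⟩
    have hz : ∀ a, stalkMapₗ ι y (stalkMapₗ (kernel.ι ι) y a) = 0 := fun a => by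
      refine (RefHull.Colim.stalkMap_comp (kernel.ι ι) ι y a).symm.trans ?_
      rw [kernel.condition]
      exact LinearMap.congr_fun (Modules.StalkModule.stalkMapₗ_zero y) a
    rw [hz, hz]
  · obtain ⟨eS⟩ := exists_stalkEquiv_sum hL.1 m r η
    exact (subsingleton_stalk_cokernel_iff ι η).2 (surjective_of_injective hη (hgen η hη).some eS _
      (hinj η (mem_genericPoints_of_isField hη)))

/-- Conversely, such an embedding forces depth one and generic rank `r`. -/
theorem of_embedding [IsNoetherian X] [IsReduced X] (hiso : ∀ x : X, IsClosed ({x} : Set X) → ¬ IsOpen ({x} : Set X))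
    {L : X.Modules} (hL : PicF.IsInvertible L) {F : X.Modules} {r m : ℕ}
    (ι : F ⟶ ∐ fun _ : Fin r => CohB1.tensorPow L m) [Mono ι]
    (hcok : ∀ η : X, IsField (X.presheaf.stalk η) → Subsingleton ((cokernel ι).presheaf.stalk η)) :
    (∀ x : X, IsClosed ({x} : Set X) → ¬ Curv2.IsAssPoint F x) ∧
      (∀ η : X, IsField (X.presheaf.stalk η) →
        Nonempty (F.presheaf.stalk η ≃ₗ[X.presheaf.stalk η] (Fin r → X.presheaf.stalk η))) := by
  have hinj := (Modules.StalkModule.mono_iff_stalkMapₗ_injective ι).1 inferInstance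
  refine ⟨fun x hx h => ?_, fun η hη => ?_⟩
  · obtain ⟨eS⟩ := exists_stalkEquiv_sum hL m r x
    obtain ⟨hp, v, hv⟩ := h
    have hv0 : v ≠ 0 := by
      rintro rfl
      exact hp.ne_top (eq_top_iff.mpr fun z _ => by
        rw [hv]; exact Ideal.le_radical (Submodule.mem_colon_singleton.mpr (by simp)))
    obtain ⟨j, hj⟩ := Function.ne_iff.1
      (show eS (stalkMapₗ ι x v) ≠ 0 from fun h0 => hv0 (hinj x (eS.injective (by rw [h0, map_zero, map_zero]))))
    have hmax : AssPt.Basic.MaxAssoc (X.presheaf.stalk x) := by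
      refine H52.FBase.NoEmb.maxAssoc_iff.2 ⟨_, hj, fun a ha => ?_⟩
      rw [hv, Ideal.mem_radical_iff] at ha
      obtain ⟨n, hn⟩ := ha
      rw [Submodule.mem_colon_singleton, Submodule.mem_bot] at hn
      refine ⟨n, ?_⟩
      have h2 : a ^ n • eS (stalkMapₗ ι x v) = 0 := by rw [← map_smul, ← map_smul, hn, map_zero, map_zero]
      exact congrFun h2 j
    have hgenx := (AssPt.Basic.maxAssoc_iff_maximalPoint x).1 hmax
    refine hiso x hx ?_
    have hC : IsClosed (⋃ η ∈ genericPoints X \ {x}, closure ({η} : Set X)) :=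
      (finite_genericPoints.subset Set.sdiff_subset).isClosed_biUnion fun _ _ => isClosed_closure
    convert hC.isOpen_compl using 1
    ext z
    constructor
    · rintro rfl hzC
      obtain ⟨η, hη, hz⟩ := Set.mem_iUnion₂.1 hzC
      exact hη.2 (hgenx η (specializes_iff_mem_closure.2 hz))
    · intro hz
      obtain ⟨η, hη, hηz⟩ := Flat55.GenericPoints.exists_specializes z
      by_contra hne
      refine hz (Set.mem_iUnion₂.2 ⟨η, ⟨hη, ?_⟩, hηz.mem_closure⟩)
      rintro rfl
      exact hne (by have := hηz.mem_closure; rwa [hx.closure_eq] at this)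
  · obtain ⟨eS⟩ := exists_stalkEquiv_sum hL m r η
    exact ⟨(LinearEquiv.ofBijective (stalkMapₗ ι η)
      ⟨hinj η, (subsingleton_stalk_cokernel_iff ι η).1 (hcok η hη)⟩) ≪≫ₗ eS⟩

/-- A connected space of dimension one has no isolated closed point. -/
theorem no_isolated [ConnectedSpace X] (hdim : topologicalKrullDim X = 1) (x : X)
    (hx : IsClosed ({x} : Set X)) : ¬ IsOpen ({x} : Set X) := fun ho => by
  have huniv : ({x} : Set X) = Set.univ :=
    (isClopen_iff.1 ⟨hx, ho⟩).resolve_left (Set.singleton_ne_empty x)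
  haveI : Subsingleton X := ⟨fun a b => by
    have ha : a ∈ ({x} : Set X) := huniv ▸ Set.mem_univ a
    have hb : b ∈ ({x} : Set X) := huniv ▸ Set.mem_univ b
    exact (Set.mem_singleton_iff.mp ha).trans (Set.mem_singleton_iff.mp hb).symm⟩
  haveI : Nonempty X := ⟨x⟩
  rw [topologicalKrullDim, ← Order.krullDim_eq_of_orderIso (irreducibleSetEquivPoints (α := X)).symm,
    Order.krullDim_eq_zero] at hdim
  exact zero_ne_one hdim

end Groth.Agent.Lib.TFNodal.TwistEmbed
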