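import Groth.Agent.Lib.RefHull.Open
import Groth.Agent.Lib.FundLocal.OfStalk
import Groth.Agent.Lib.Modules.StalkRestrict
import Groth.Agent.Lib.CohDelta.FPApprox.Colim
import Groth.Agent.Lib.SqZeroLift.Tensor
import Groth.Agent.Lib.Ample.QAffCrit

/-!
# An isomorphism of stalks of coherent modules spreads to a neighbourhood
-/

set_option autoImplicit false
set_option linter.style.haveILetI false

universe u

open CategoryTheory CategoryTheory.Limits AlgebraicGeometry TopologicalSpace Opposite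

noncomputable section

namespace Groth.Agent.Lib.TFNodal.Spread

open Groth.Agent.Lib Groth.Agent.Lib.Modules Groth.Agent.Lib.TensorMod.Dual
open Groth.Agent.Lib.RefHull.SecHom Groth.Agent.Lib.RefHull.HomSh
open Groth.Agent.Lib.Modules.StalkModule (stalkMapₗ stalkMapₗ_germ)
open Groth.Agent.Lib.Modules.StalkRestrict (restrictStalkAddEquiv restrictStalkAddEquiv_germ restrictStalkAddEquiv_smul)

attribute [local instance] HasFiniteBiproducts.of_hasFiniteProducts

variable {X : Scheme.{u}} {F G : X.Modules}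

/-- Two inverse stalk maps given by sections of the sheaf Hom are inverse nearby. -/
theorem exists_nhd_comp_eq_id [IsLocallyNoetherian X] (hF : Coh.IsCoh F) {x : X} {U₀ : X.Opens}
    (hx : x ∈ U₀) (g : Γ(_root_.RefHull.homSh F G, U₀)) (h : Γ(_root_.RefHull.homSh G F, U₀))
    (hgh : (h.1 ⟨x, hx⟩).comp (g.1 ⟨x, hx⟩) = LinearMap.id) :
    ∃ W : X.Opens, x ∈ W ∧ ∃ hW : W ≤ U₀, ∀ y (hy : y ∈ W),
      (h.1 ⟨y, hW hy⟩).comp (g.1 ⟨y, hW hy⟩) = LinearMap.id := by
  haveI := hF.1
  obtain ⟨U, hU, hxU, hle'⟩ := exists_isAffineOpen_mem_and_subset (X := X) hx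
  have hle : U ≤ U₀ := hle'
  haveI := CohBasics.Closure.finite_sections hF hU
  obtain ⟨k, m, hm⟩ := Module.Finite.exists_fin (R := Γ(X, U)) (M := Γ(F, U))
  obtain ⟨f, hf, hfm⟩ := exists_nhd_res_eq_zero hxU hU (fun i => app h hle (app g hle (m i)) - m i)
    fun i => by
      rw [map_sub, germ_app, germ_app]
      exact sub_eq_zero.mpr (LinearMap.congr_fun hgh _)
  refine ⟨X.basicOpen f, hf, (X.basicOpen_le f).trans hle, fun y hy => ?_⟩
  have hyU : y ∈ U := X.basicOpen_le f hy
  refine stalk_ext hU hyU fun t => ?_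
  have ht : t ∈ Submodule.span Γ(X, U) (Set.range m) := hm ▸ trivial
  induction ht using Submodule.span_induction with
  | mem a ha =>
    obtain ⟨i, rfl⟩ := ha
    have e := congrArg (F.presheaf.germ _ y hy) (hfm i)
    rw [germ_rs, map_zero, map_sub, germ_app, germ_app, sub_eq_zero] at e
    simpa using e
  | zero => simp
  | add a b _ _ ha hb => simp only [map_add, ha, hb]
  | smul a b _ hb => simp only [Mero.germ_smul, map_smul, hb]

/-- A section of the sheaf Hom over `U` is a morphism of the restrictions. -/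
theorem exists_hom_restrict {U : X.Opens} (g : Γ(_root_.RefHull.homSh F G, U)) :
    ∃ φ : F.restrict U.ι ⟶ G.restrict U.ι, ∀ (y : (U : Scheme.{u})) (v : (F.restrict U.ι).presheaf.stalk y),
      restrictStalkAddEquiv U.ι G y (stalkMapₗ φ y v) =
        (show _root_.RefHull.StalkHom F G (U.ι y) from g.1 ⟨U.ι y, y.2⟩) (restrictStalkAddEquiv U.ι F y v) := by
  let gy : ∀ y : (U : Scheme.{u}), _root_.RefHull.StalkHom F G (U.ι y) := fun y => g.1 ⟨U.ι y, y.2⟩
  let f : ∀ y : (U : Scheme.{u}), (F.restrict U.ι).presheaf.stalk y →ₗ[(U : Scheme.{u}).presheaf.stalk y]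
      (G.restrict U.ι).presheaf.stalk y := fun y =>
    { toFun := fun v => (restrictStalkAddEquiv U.ι G y).symm (gy y (restrictStalkAddEquiv U.ι F y v))
      map_add' := fun v w => (congrArg (restrictStalkAddEquiv U.ι G y).symm
        ((congrArg (gy y) (map_add (restrictStalkAddEquiv U.ι F y) v w)).trans (map_add (gy y) _ _))).trans
          (map_add (restrictStalkAddEquiv U.ι G y).symm _ _)
      map_smul' := fun c v => by
        obtain ⟨a, rfl⟩ := (ConcreteCategory.bijective_of_isIso (U.ι.stalkMap y)).surjective c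
        refine (AddEquiv.symm_apply_eq _).2 ?_
        refine ((congrArg (gy y) (restrictStalkAddEquiv_smul U.ι F y a v)).trans (map_smul (gy y) a _)).trans ?_
        refine Eq.trans ?_ (restrictStalkAddEquiv_smul U.ι G y a _).symm
        exact congrArg (a • ·) ((restrictStalkAddEquiv U.ι G y).apply_symm_apply _).symm }
  obtain ⟨φ, hφ⟩ := FundLocal.OfStalk.exists_hom f fun y v => by
    obtain ⟨W, hyW, s, rfl⟩ := TopCat.Presheaf.exists_germ_eq (F.restrict U.ι).presheaf v
    have hWU : U.ι ''ᵁ W ≤ U := by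
      rintro _ ⟨w, -, rfl⟩
      exact w.2
    let s' : Γ(F, U.ι ''ᵁ W) := s
    let t : Γ(G.restrict U.ι, W) := app g hWU s'
    refine ⟨W, hyW, s, t, rfl, fun z hz => ?_⟩
    refine (AddEquiv.symm_apply_eq _).2 ?_
    refine (congrArg (gy z) (restrictStalkAddEquiv_germ U.ι F hz s)).trans ?_
    refine Eq.trans ?_ (restrictStalkAddEquiv_germ U.ι G hz t).symm
    exact (germ_app g hWU s' (U.ι z) ⟨z, hz, rfl⟩).symm
  refine ⟨φ, fun y v => ?_⟩
  rw [hφ]
  exact (restrictStalkAddEquiv U.ι G y).apply_symm_apply _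

/-- **A stalk isomorphism of coherent modules comes from an isomorphism near the point.** -/
theorem exists_iso_restrict [IsLocallyNoetherian X] (hF : Coh.IsCoh F) (hG : Coh.IsCoh G) {x : X}
    (e : F.presheaf.stalk x ≃ₗ[X.presheaf.stalk x] G.presheaf.stalk x) {V : X.Opens} (hxV : x ∈ V) :
    ∃ U : X.Opens, x ∈ U ∧ U ≤ V ∧ Nonempty (F.restrict U.ι ≅ G.restrict U.ι) := by
  haveI := hF.1
  haveI := hG.1
  obtain ⟨v, hv⟩ := evalStalk_surjective (F := F) (G := G) hF x e.toLinearMap
  obtain ⟨w, hw⟩ := evalStalk_surjective (F := G) (G := F) hG x e.symm.toLinearMap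
  obtain ⟨U₁, hx₁, g₁, rfl⟩ := TopCat.Presheaf.exists_germ_eq (_root_.RefHull.homSh F G).presheaf v
  obtain ⟨U₂, hx₂, h₁, rfl⟩ := TopCat.Presheaf.exists_germ_eq (_root_.RefHull.homSh G F).presheaf w
  rw [RefHull.evalStalk_germ] at hv hw
  let U₀ : X.Opens := U₁ ⊓ U₂
  let g : Γ(_root_.RefHull.homSh F G, U₀) :=
    (_root_.RefHull.homSh F G).presheaf.map (homOfLE inf_le_left).op g₁
  let h : Γ(_root_.RefHull.homSh G F, U₀) :=
    (_root_.RefHull.homSh G F).presheaf.map (homOfLE inf_le_right).op h₁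
  have hg : g.1 ⟨x, hx₁, hx₂⟩ = e.toLinearMap := hv
  have hh : h.1 ⟨x, hx₁, hx₂⟩ = e.symm.toLinearMap := hw
  obtain ⟨W₁, hxW₁, hW₁, e₁⟩ := exists_nhd_comp_eq_id hF (show x ∈ U₀ from ⟨hx₁, hx₂⟩) g h
    (by rw [hg, hh]; exact LinearMap.ext e.symm_apply_apply)
  obtain ⟨W₂, hxW₂, hW₂, e₂⟩ := exists_nhd_comp_eq_id hG (show x ∈ U₀ from ⟨hx₁, hx₂⟩) h g
    (by rw [hg, hh]; exact LinearMap.ext e.apply_symm_apply)
  let U : X.Opens := W₁ ⊓ W₂ ⊓ V
  have hU0 : U ≤ U₀ := fun y hy => hW₁ hy.1.1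
  obtain ⟨φ, hφ⟩ := exists_hom_restrict
    ((_root_.RefHull.homSh F G).presheaf.map (homOfLE hU0).op g)
  haveI : IsIso φ := by
    rw [StalkModule.isIso_iff_stalkMapₗ_bijective]
    intro y
    have hb : Function.Bijective (g.1 ⟨y.1, hU0 y.2⟩) :=
      ⟨Function.LeftInverse.injective (LinearMap.congr_fun (e₁ y.1 y.2.1.1)),
        Function.RightInverse.surjective (LinearMap.congr_fun (e₂ y.1 y.2.1.2))⟩
    refine ((restrictStalkAddEquiv U.ι G y).bijective.of_comp_iff' _).mp ?_
    have key : ⇑(restrictStalkAddEquiv U.ι G y) ∘ ⇑(stalkMapₗ φ y) =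
        ⇑(show _root_.RefHull.StalkHom F G (U.ι y) from g.1 ⟨U.ι y, hU0 y.2⟩) ∘
          ⇑(restrictStalkAddEquiv U.ι F y) := funext (hφ y)
    rw [key]
    exact hb.comp (restrictStalkAddEquiv U.ι F y).bijective
  exact ⟨U, ⟨⟨hxW₁, hxW₂⟩, hxV⟩, inf_le_right, ⟨asIso φ⟩⟩

/-- Stalks of a finite coproduct. -/
theorem exists_stalk_coproduct {d : ℕ} (A : Fin d → X.Modules) (x : X) :
    Nonempty ((∐ A).presheaf.stalk x ≃ₗ[X.presheaf.stalk x] (∀ i, (A i).presheaf.stalk x)) :=
  ⟨(((StalkModule.stalkModFunctor X x).mapIso (biproduct.isoCoproduct A)).toLinearEquiv.symm).trans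
    (LinearEquiv.ofBijective (LinearMap.pi fun k => stalkMapₗ (biproduct.π A k) x)
      (CohDelta.IdealMul.DevExt.exists_stalk_biproduct A x))⟩

/-- Stalks of a binary coproduct. -/
theorem exists_stalk_coprod (M N : X.Modules) (x : X) :
    Nonempty ((M ⨿ N).presheaf.stalk x ≃ₗ[X.presheaf.stalk x]
      M.presheaf.stalk x × N.presheaf.stalk x) := by
  suffices h : Nonempty ((M ⊞ N).presheaf.stalk x ≃ₗ[X.presheaf.stalk x]
      M.presheaf.stalk x × N.presheaf.stalk x) by
    obtain ⟨e⟩ := h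
    exact ⟨(((StalkModule.stalkModFunctor X x).mapIso (biprod.isoCoprod M N)).toLinearEquiv.symm).trans e⟩
  refine ⟨LinearEquiv.ofLinearMap
      ((stalkMapₗ (biprod.fst : M ⊞ N ⟶ M) x).prod (stalkMapₗ (biprod.snd : M ⊞ N ⟶ N) x))
      ((stalkMapₗ (biprod.inl : M ⟶ M ⊞ N) x).coprod (stalkMapₗ (biprod.inr : N ⟶ M ⊞ N) x)) ?_ ?_⟩
  · refine LinearMap.ext fun v => Prod.ext ?_ ?_ <;>
      simp [← LinearMap.comp_apply, ← StalkModule.stalkMapₗ_comp, StalkModule.stalkMapₗ_id,
        StalkModule.stalkMapₗ_zero]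
  · refine LinearMap.ext fun v => ?_
    have h := congrArg (fun q => stalkMapₗ q x v) (biprod.total (X := M) (Y := N))
    simp only [StalkModule.stalkMapₗ_add, StalkModule.stalkMapₗ_comp, StalkModule.stalkMapₗ_id,
      LinearMap.add_apply, LinearMap.comp_apply, LinearMap.id_apply] at h
    simpa using h

/-- A binary coproduct of coherent modules is coherent. -/
theorem isCoh_coprod {M N : X.Modules} (hM : Coh.IsCoh M) (hN : Coh.IsCoh N) : Coh.IsCoh (M ⨿ N) := by
  let A : ULift.{u} Bool → X.Modules := fun b => Bool.rec N M b.down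
  have h := CohDelta.FPApprox.Colim.isCoh_coproduct A (by rintro ⟨_ | _⟩ <;> assumption)
  let i : (∐ A) ≅ M ⨿ N :=
    { hom := Sigma.desc fun b => match b with
        | ⟨true⟩ => coprod.inl
        | ⟨false⟩ => coprod.inr
      inv := coprod.desc (Sigma.ι A ⟨true⟩) (Sigma.ι A ⟨false⟩)
      hom_inv_id := Sigma.hom_ext _ _ (by
        rintro ⟨_ | _⟩ <;>
          simp only [Sigma.ι_desc_assoc, coprod.inl_desc, coprod.inr_desc, Category.comp_id])
      inv_hom_id := coprod.hom_ext (by simp; exact coprod.inl_desc _ _) (by simp; exact coprod.inr_desc _ _) }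
  exact CohBasics.Closure.isCoh_of_iso i h

/-- The stalk of the ideal of a closed point at that point. -/
theorem exists_stalk_pointIdeal {x : X} (hx : IsClosed ({x} : Set X)) :
    Nonempty ((ClSub.idealMod (Scheme.IdealSheafData.vanishingIdeal ⟨{x}, hx⟩)).presheaf.stalk x ≃ₗ[X.presheaf.stalk x]
      IsLocalRing.maximalIdeal (X.presheaf.stalk x)) := by
  set I := Scheme.IdealSheafData.vanishingIdeal (X := X) ⟨{x}, hx⟩
  have hr : LinearMap.range (SqZeroLift.aι I x) = IsLocalRing.maximalIdeal (X.presheaf.stalk x) := by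
    refine le_antisymm ?_ ?_
    · have key : ∀ y ∈ Set.range I.subschemeι, ∀ t, ¬ IsUnit (SqZeroLift.aι I y t) := by
        rintro _ ⟨z, rfl⟩ t hu
        have h0 := hu.map (I.subschemeι.stalkMap z).hom
        rw [SqZeroLift.stalkMap_aι] at h0
        exact not_isUnit_zero h0
      rintro _ ⟨t, rfl⟩
      refine (IsLocalRing.mem_maximalIdeal _).mpr (key x ?_ t)
      rw [Scheme.IdealSheafData.range_subschemeι, Scheme.IdealSheafData.coe_support_vanishingIdeal]
      exact rfl
    · intro r hr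
      obtain ⟨V, hxV, s, rfl⟩ := TopCat.Presheaf.exists_germ_eq X.presheaf r
      obtain ⟨W, hW, hxW, hWV⟩ := exists_isAffineOpen_mem_and_subset hxV
      let s' : Γ(X, W) := X.presheaf.map (homOfLE hWV).op s
      have e : X.presheaf.germ W x hxW s' = X.presheaf.germ V x hxV s :=
        TopCat.Presheaf.germ_res_apply X.presheaf (homOfLE hWV) x hxW s
      have hs : s' ∈ I.ideal ⟨W, hW⟩ := by
        rw [Scheme.IdealSheafData.vanishingIdeal_ideal, PrimeSpectrum.mem_vanishingIdeal]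
        intro p hp
        by_contra hc
        have h1 : hW.fromSpec p ∈ X.basicOpen s' := (hW.fromSpec_preimage_basicOpen s').ge hc
        rw [show hW.fromSpec p = x from hp] at h1
        exact (IsLocalRing.mem_maximalIdeal _).mp hr (e ▸ (X.mem_basicOpen s' x hxW).mp h1)
      have hk : I.subschemeι.app W s' = 0 := by
        rw [← I.ker_subschemeι_app ⟨W, hW⟩] at hs
        exact hs
      obtain ⟨m, hm⟩ := (ClSub.Sections.mem_range_idealModι_app_iff I W s').2 hk
      exact ⟨_, by rw [SqZeroLift.aι_germ I hxW m, hm, e]⟩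
  exact ⟨(LinearEquiv.ofInjective _ (SqZeroLift.aι_injective I x)).trans (LinearEquiv.ofEq _ _ hr)⟩

end Groth.Agent.Lib.TFNodal.Spread
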