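import Mathlib.RingTheory.Length
import Mathlib.RingTheory.LocalRing.ResidueField.Basic
import Mathlib.LinearAlgebra.TensorProduct.RightExactness
import Mathlib.LinearAlgebra.TensorProduct.Quotient
import Mathlib.RingTheory.SimpleModule.Basic
import Mathlib.LinearAlgebra.TensorProduct.Pi
import Mathlib.LinearAlgebra.TensorProduct.Prod
import Mathlib.RingTheory.Ideal.Cotangent
import Mathlib.RingTheory.IntegralClosure.IsIntegralClosure.Basic
import Mathlib.RingTheory.Ideal.GoingUp

/-!
# Modules of type `R^a ⊕ m^b` over a local ring with a length one extension `P ⊇ R`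

The algebra behind `F → π_* π^* F` and `F → π_* E₀` at a node: `P = (π_* O)_x`, `p₀ = 1`.
-/

set_option autoImplicit false
set_option linter.style.haveILetI false
set_option linter.unusedSectionVars false

universe u

open IsLocalRing
open scoped TensorProduct nonZeroDivisors

namespace Groth.Agent.Lib.TFNodal.NodeAlg

variable {R : Type u} [CommRing R] [IsLocalRing R] {P : Type u} [AddCommGroup P] [Module R P] {p₀ : P}

/-- `P / R p₀` is the residue field. -/
theorem exists_quot_equiv (h : Module.length R (P ⧸ R ∙ p₀) = 1) :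
    Nonempty ((P ⧸ R ∙ p₀) ≃ₗ[R] R ⧸ maximalIdeal R) := by
  haveI : IsSimpleModule R (P ⧸ R ∙ p₀) := Module.length_eq_one_iff.mp h
  obtain ⟨I, hI, ⟨e⟩⟩ := isSimpleModule_iff_quot_maximal.mp ‹IsSimpleModule R (P ⧸ R ∙ p₀)›
  rw [IsLocalRing.eq_maximalIdeal hI] at e
  exact ⟨e⟩

theorem exists_eq_smul_of_mem (h : Module.length R (P ⧸ R ∙ p₀) = 1)
    (hp : p₀ ∉ maximalIdeal R • (⊤ : Submodule R P)) {w : P}
    (hw : w ∈ maximalIdeal R • (⊤ : Submodule R P)) : ∃ r ∈ maximalIdeal R, w = r • p₀ := by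
  obtain ⟨e⟩ := exists_quot_equiv h
  have hle : maximalIdeal R • (⊤ : Submodule R P) ≤ R ∙ p₀ := Submodule.smul_le.2 fun r hr x _ => by
    rw [← Submodule.Quotient.mk_eq_zero, Submodule.Quotient.mk_smul]
    refine e.injective ?_
    rw [map_smul, map_zero]
    obtain ⟨c, hc⟩ := Ideal.Quotient.mk_surjective (e (Submodule.Quotient.mk x))
    rw [← hc]
    exact Ideal.Quotient.eq_zero_iff_mem.2 (Ideal.mul_mem_right c _ hr)
  obtain ⟨r, rfl⟩ := Submodule.mem_span_singleton.mp (hle hw)
  refine ⟨r, by_contra fun hr => hp ?_, rfl⟩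
  have hu : IsUnit r := IsLocalRing.notMem_maximalIdeal.mp hr
  have := Submodule.smul_mem _ (↑hu.unit⁻¹ : R) hw
  rwa [smul_smul, hu.val_inv_mul, one_smul] at this

/-- In an integral extension `1` is not in `m B`. -/
theorem one_notMem_smul_top (B : Type u) [CommRing B] [Algebra R B] [Algebra.IsIntegral R B]
    (hinj : Function.Injective (algebraMap R B)) :
    (1 : B) ∉ maximalIdeal R • (⊤ : Submodule R B) := by
  rw [Ideal.smul_top_eq_map, Submodule.restrictScalars_mem]
  obtain ⟨Q, -, hQ, hQc⟩ := Ideal.exists_ideal_over_prime_of_isIntegral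
    (R := R) (S := B) (maximalIdeal R) ⊥ (fun c hc => by
      have hc0 : c = 0 := (injective_iff_map_eq_zero _).mp hinj c hc
      rw [hc0]; exact zero_mem _)
  exact fun h1 => hQ.ne_top ((Ideal.eq_top_iff_one _).2 (Ideal.map_le_iff_le_comap.2 hQc.ge h1))

variable {F : Type u} [AddCommGroup F] [Module R F] {a b : ℕ}
  (φ : F ≃ₗ[R] (Fin a → R) × (Fin b → maximalIdeal R))

/-- The first coordinates. -/
noncomputable def co₁ (i : Fin a) : F →ₗ[R] R :=
  (LinearMap.proj i).comp ((LinearMap.fst R _ _).comp φ.toLinearMap)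

/-- The last coordinates. -/
noncomputable def co₂ (j : Fin b) : F →ₗ[R] maximalIdeal R :=
  (LinearMap.proj j).comp ((LinearMap.snd R _ _).comp φ.toLinearMap)

theorem eq_zero_of_co {v : F} (h₁ : ∀ i, co₁ φ i v = 0) (h₂ : ∀ j, (co₂ φ j v : R) = 0) : v = 0 :=
  φ.injective (by
    rw [map_zero]
    exact Prod.ext (funext h₁) (funext fun j => Subtype.ext (h₂ j)))

/-- `z ↦` its coordinate along a functional. -/
noncomputable def val (P : Type u) [AddCommGroup P] [Module R P] (ρ : F →ₗ[R] R) : P ⊗[R] F →ₗ[R] P :=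
  (TensorProduct.rid R P).toLinearMap.comp (ρ.lTensor P)

theorem val_tmul (ρ : F →ₗ[R] R) (p : P) (v : F) : val P ρ (p ⊗ₜ v) = ρ v • p := rfl

/-- All coordinates. -/
noncomputable def Θ (P : Type u) [AddCommGroup P] [Module R P] :
    P ⊗[R] F →ₗ[R] (Fin a → P) × (Fin b → P) :=
  (LinearMap.pi fun i => val P (co₁ φ i)).prod
    (LinearMap.pi fun j => val P ((maximalIdeal R).subtype.comp (co₂ φ j)))

include φ in
/-- The unit `v ↦ p₀ ⊗ v` is injective. -/
theorem tmul_injective (hp : Function.Injective fun r : R => r • p₀) :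
    Function.Injective fun v : F => p₀ ⊗ₜ[R] v := by
  intro v w hvw
  rw [← sub_eq_zero]
  have h : p₀ ⊗ₜ[R] (v - w) = 0 := by rw [TensorProduct.tmul_sub]; exact sub_eq_zero.mpr hvw
  have key : ∀ ρ : F →ₗ[R] R, ρ (v - w) = 0 := fun ρ => hp (show ρ (v - w) • p₀ = (0 : R) • p₀ by
    rw [zero_smul, ← val_tmul, h, map_zero])
  exact eq_zero_of_co φ (fun i => key _) (fun j => key ((maximalIdeal R).subtype.comp (co₂ φ j)))

/-- The cokernel of the unit. -/
theorem exists_coker_equiv (h : Module.length R (P ⧸ R ∙ p₀) = 1) :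
    Nonempty ((P ⊗[R] F ⧸ LinearMap.range (TensorProduct.mk R P F p₀)) ≃ₗ[R]
      F ⧸ maximalIdeal R • (⊤ : Submodule R F)) := by
  obtain ⟨e⟩ := exists_quot_equiv h
  let η : R →ₗ[R] P := LinearMap.toSpanSingleton R P p₀
  have hη : Function.Exact η (R ∙ p₀).mkQ := by
    rw [LinearMap.exact_iff, Submodule.ker_mkQ, LinearMap.range_toSpanSingleton]
  have hr : LinearMap.range (TensorProduct.mk R P F p₀) = LinearMap.range (η.rTensor F) := by
    refine le_antisymm ?_ ?_
    · rintro _ ⟨v, rfl⟩
      exact ⟨1 ⊗ₜ v, by simp [η]⟩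
    · rintro _ ⟨z, rfl⟩
      refine ⟨TensorProduct.lid R F z, ?_⟩
      induction z using TensorProduct.induction_on with
      | zero => simp
      | tmul r v => simp [η, TensorProduct.smul_tmul']
      | add x y hx hy => simp only [map_add, hx, hy]
  exact ⟨((Submodule.quotEquivOfEq _ _ hr).trans
    (rTensor.equiv F hη (Submodule.mkQ_surjective _))).trans
      ((TensorProduct.congr e (LinearEquiv.refl R F)).trans
        (TensorProduct.quotTensorEquivQuotSMul F (maximalIdeal R)))⟩

include φ in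
/-- `F / m F` has length `a + c b` when the cotangent space has length `c`. -/
theorem length_quot_smul_top {c : ℕ} (hc : Module.length R (maximalIdeal R).Cotangent = c) :
    Module.length R (F ⧸ maximalIdeal R • (⊤ : Submodule R F)) = (a + c * b : ℕ) := by
  let K := R ⧸ maximalIdeal R
  have e : (F ⧸ maximalIdeal R • (⊤ : Submodule R F)) ≃ₗ[R]
      (Fin a → K) × (Fin b → (maximalIdeal R).Cotangent) :=
    (TensorProduct.quotTensorEquivQuotSMul F (maximalIdeal R)).symm.trans
      ((TensorProduct.congr (LinearEquiv.refl R K) φ).trans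
        ((TensorProduct.prodRight R R K (Fin a → R) (Fin b → maximalIdeal R)).trans
          (LinearEquiv.prodCongr
            ((TensorProduct.piRight R R K fun _ : Fin a => R).trans
              (LinearEquiv.piCongrRight fun _ => TensorProduct.rid R K))
            ((TensorProduct.piRight R R K fun _ : Fin b => maximalIdeal R).trans
              (LinearEquiv.piCongrRight fun _ =>
                TensorProduct.quotTensorEquivQuotSMul (maximalIdeal R) (maximalIdeal R))))))
  have hK : Module.length R K = 1 := by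
    haveI : IsSimpleModule R K := isSimpleModule_iff_isCoatom.2 (maximalIdeal.isMaximal R).1
    exact Module.length_eq_one _ _
  rw [e.length_eq, Module.length_prod, Module.length_pi_of_fintype, Module.length_pi_of_fintype, hK, hc]
  simp [mul_comm]

section quotient

variable (h1 : Module.length R (P ⧸ R ∙ p₀) = 1) (hp : Function.Injective fun r : R => r • p₀)
  (hm : p₀ ∉ maximalIdeal R • (⊤ : Submodule R P))
  (htP : ∀ f ∈ R⁰, ∀ p : P, f • p = 0 → p = 0) {f₀ : R} (hf₀ : f₀ ∈ maximalIdeal R) (hf₀' : f₀ ∈ R⁰)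

include htP in
theorem Θ_eq_zero_of_smul {f : R} (hf : f ∈ R⁰) {z : P ⊗[R] F} (hz : f • z = 0) : Θ φ P z = 0 := by
  have h : f • Θ φ P z = 0 := by rw [← map_smul, hz, map_zero]
  exact Prod.ext (funext fun i => htP f hf _ (congrFun (congrArg Prod.fst h) i))
    (funext fun j => htP f hf _ (congrFun (congrArg Prod.snd h) j))

include hf₀ in
/-- `f₀ z` is a function of the coordinates of `z`. -/
theorem smul_eq_zero_of_Θ {z : P ⊗[R] F} (hz : Θ φ P z = 0) : f₀ • z = 0 := by
  classical
  let g₁ : Fin a → F := fun i => φ.symm (Pi.single i f₀, 0)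
  let g₂ : Fin b → F := fun j => φ.symm (0, Pi.single j ⟨f₀, hf₀⟩)
  let μ : (Fin a → P) × (Fin b → P) →ₗ[R] P ⊗[R] F :=
    (∑ i, ((TensorProduct.mk R P F).flip (g₁ i)).comp (LinearMap.proj i)).coprod
      (∑ j, ((TensorProduct.mk R P F).flip (g₂ j)).comp (LinearMap.proj j))
  have hv : ∀ v : F, ∑ i, co₁ φ i v • g₁ i + ∑ j, (co₂ φ j v : R) • g₂ j = f₀ • v := by
    intro v
    refine φ.injective ?_
    simp only [map_add, map_sum, map_smul, g₁, g₂, φ.apply_symm_apply]
    refine Prod.ext (funext fun i => ?_) (funext fun j => Subtype.ext ?_)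
    · simp [Prod.fst_sum, Finset.sum_apply, Pi.single_apply, co₁, mul_comm]
    · simp [Prod.snd_sum, Finset.sum_apply, Pi.single_apply, co₂, mul_comm, apply_ite]
  have hμ : ∀ y : P ⊗[R] F, μ (Θ φ P y) = f₀ • y := by
    intro y
    induction y using TensorProduct.induction_on with
    | zero => simp
    | tmul p v =>
      rw [← TensorProduct.tmul_smul, ← hv v, TensorProduct.tmul_add, TensorProduct.tmul_sum,
        TensorProduct.tmul_sum]
      simp [μ, Θ, val_tmul]
    | add x y hx hy => simp only [map_add, smul_add, hx, hy]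
  rw [← hμ z, hz, map_zero]

include φ h1 hp hm htP hf₀ hf₀' in
/-- The cokernel of `F → T` for `T` a torsion-free quotient of `P ⊗ F` by torsion has length `a`. -/
theorem quotient_facts {T : Type u} [AddCommGroup T] [Module R T] (q : P ⊗[R] F →ₗ[R] T)
    (hq : Function.Surjective q) (hT : ∀ f ∈ R⁰, ∀ t : T, f • t = 0 → t = 0)
    (hker : ∀ z, q z = 0 → ∃ f ∈ R⁰, f • z = 0) :
    Function.Injective (q.comp (TensorProduct.mk R P F p₀)) ∧
      Module.length R (T ⧸ LinearMap.range (q.comp (TensorProduct.mk R P F p₀))) = (a : ℕ∞) := by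
  classical
  refine ⟨(injective_iff_map_eq_zero _).mpr fun v hv => ?_, ?_⟩
  · obtain ⟨f, hf, hfv⟩ := hker _ hv
    have h : f • v = 0 := tmul_injective φ hp (show p₀ ⊗ₜ[R] (f • v) = p₀ ⊗ₜ[R] 0 by
      rw [TensorProduct.tmul_zero, TensorProduct.tmul_smul]; exact hfv)
    refine eq_zero_of_co φ (fun i => ?_) (fun j => ?_)
    · refine mul_left_mem_nonZeroDivisors_eq_zero_iff hf |>.mp ?_
      rw [← smul_eq_mul, ← map_smul, h, map_zero]
    · refine mul_left_mem_nonZeroDivisors_eq_zero_iff hf |>.mp ?_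
      rw [← smul_eq_mul, ← Submodule.coe_smul, ← map_smul, h, map_zero, Submodule.coe_zero]
  let cmap : P ⊗[R] F →ₗ[R] (Fin a → P ⧸ R ∙ p₀) :=
    LinearMap.pi fun i => (R ∙ p₀).mkQ.comp (val P (co₁ φ i))
  have hcs : Function.Surjective cmap := fun y => by
    choose p hpp using fun i => Submodule.mkQ_surjective (R ∙ p₀) (y i)
    refine ⟨∑ i, p i ⊗ₜ φ.symm (Pi.single i 1, 0), funext fun i => ?_⟩
    rw [← hpp i]
    simp [cmap, val_tmul, co₁, Pi.single_apply, Finset.sum_apply]
    exact (Finset.sum_eq_single i (by intro c _ hc; simp [Ne.symm hc]) (by simp)).trans (by simp)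
  have hsurjq := hq
  have hkc : LinearMap.ker cmap = LinearMap.range (TensorProduct.mk R P F p₀) ⊔ LinearMap.ker q := by
    refine le_antisymm (fun z hz => ?_) (sup_le ?_ fun z hz => ?_)
    · have h₁ : ∀ i, ∃ r : R, r • p₀ = val P (co₁ φ i) z := fun i =>
        Submodule.mem_span_singleton.mp ((Submodule.Quotient.mk_eq_zero _).mp (congrFun hz i))
      have hmem : ∀ (j : Fin b) (y : P ⊗[R] F),
          val P ((maximalIdeal R).subtype.comp (co₂ φ j)) y ∈ maximalIdeal R • (⊤ : Submodule R P) := by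
        intro j y
        induction y using TensorProduct.induction_on with
        | zero => simp
        | tmul p v =>
          rw [val_tmul]
          exact Submodule.smul_mem_smul (co₂ φ j v).2 trivial
        | add x y hx hy => rw [map_add]; exact add_mem hx hy
      choose r hr using h₁
      choose s hs hs' using fun j => exists_eq_smul_of_mem h1 hm (hmem j z)
      let v : F := φ.symm (r, fun j => ⟨s j, hs j⟩)
      have hΘ : Θ φ P (z - p₀ ⊗ₜ v) = 0 := by
        refine Prod.ext (funext fun i => ?_) (funext fun j => ?_)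
        · simp [Θ, map_sub, val_tmul, co₁, v, hr]
        · have hv : co₂ φ j v = ⟨s j, hs j⟩ := by simp [co₂, v]
          simp [Θ, map_sub, val_tmul, hv, hs' j]
      have hqz : q (z - p₀ ⊗ₜ v) = 0 := hT f₀ hf₀' _ (by
        rw [← map_smul, smul_eq_zero_of_Θ φ hf₀ hΘ, map_zero])
      exact Submodule.mem_sup.mpr ⟨p₀ ⊗ₜ v, ⟨v, rfl⟩, z - p₀ ⊗ₜ v, hqz, by abel⟩
    · rintro _ ⟨v, rfl⟩
      exact funext fun i => (Submodule.Quotient.mk_eq_zero _).mpr
        (Submodule.smul_mem _ _ (Submodule.mem_span_singleton_self p₀))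
    · obtain ⟨f, hf, hfz⟩ := hker z hz
      refine funext fun i => ?_
      have : val P (co₁ φ i) z = 0 := congrFun (congrArg Prod.fst (Θ_eq_zero_of_smul φ htP hf hfz)) i
      simp [cmap, this]
  let q' : P ⊗[R] F →ₗ[R] T ⧸ LinearMap.range (q.comp (TensorProduct.mk R P F p₀)) :=
    (Submodule.mkQ _).comp q
  have hk' : LinearMap.ker q' = LinearMap.ker cmap := by
    rw [LinearMap.ker_comp, Submodule.ker_mkQ, LinearMap.range_comp, Submodule.comap_map_eq, hkc]
  rw [← (LinearMap.quotKerEquivOfSurjective q' ((Submodule.mkQ_surjective _).comp hsurjq)).length_eq,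
    (Submodule.quotEquivOfEq _ _ hk').length_eq,
    (LinearMap.quotKerEquivOfSurjective cmap hcs).length_eq, Module.length_pi_of_fintype]
  simp [h1]

end quotient

end Groth.Agent.Lib.TFNodal.NodeAlg
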