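import Groth.Agent.Lib.TFNodal.Push
import Groth.Agent.Lib.TFNodal.NodeAlg
import Groth.Agent.Lib.Curves.NormGenus
import Groth.Agent.Lib.Normalization.CokerStalk
import Groth.Agent.Lib.SurfInt.H2Vanish
import Groth.Agent.Lib.TensorMod.LocFree

/-!
# A nodal curve, its normalization, and a torsion-free module of given type
-/

set_option autoImplicit false
set_option linter.style.haveILetI false
set_option linter.unusedSectionVars false

universe u

open CategoryTheory CategoryTheory.Limits AlgebraicGeometry TopologicalSpace Opposite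
open scoped nonZeroDivisors TensorProduct

noncomputable section

attribute [local instance] Curv2.stalkAlgebra

namespace Groth.Agent.Lib.TFNodal.Node

open Groth.Agent.Lib Groth.Agent.Lib.Modules Groth.Agent.H25
open Groth.Agent.Lib.Modules.StalkModule (stalkMapₗ stalkMapₗ_germ)
open Groth.Agent.Lib.DerivedOX.PullbackStalk (pushStalkMap)

variable (k : Type u) [Field k] [IsAlgClosed k] (X : Scheme.{u}) [X.Over (Spec (CommRingCat.of k))]
  [IsProper (X ↘ Spec (CommRingCat.of k))] {Y : Scheme.{u}} (π : Y ⟶ X) [IsFinite π]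
  (U : X.Opens)

/-- The hypotheses of the rows on nodal curves and their normalizations. -/
structure IsCtx : Prop where
  nodal : Curv2.AtWorstNodal k X
  smooth : Smooth (π ≫ (X ↘ Spec (CommRingCat.of k)))
  mem_iff : ∀ x : X, x ∈ U ↔ ¬ Curv2.IsNode k X x
  iso : IsIso (π ∣_ U)
  dense : Dense ((π ⁻¹ᵁ U : Y.Opens) : Set Y)

variable {k X π U} (h : IsCtx k X π U)

include h in
theorem isReduced : IsReduced X := Node.AtWorst.isReduced k X h.nodal

include h in
theorem dense_base : Dense (U : Set X) := by
  haveI := isReduced h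
  obtain ⟨V, hd, hV⟩ := (S1549.result k X).1 (Node.AtWorst.geometricallyReduced k X h.nodal)
  refine hd.mono fun x hx => (h.mem_iff x).2 fun hn => ?_
  have h0 := Curves.NormGenus.deltaInv_smooth k X
    ((Node.AtWorst.exists_smooth_iff k X x).1 ⟨V, hx, hV⟩)
  rw [Curves.NormGenus.deltaInv_node k X hn] at h0
  exact one_ne_zero h0

include h in
theorem stalk_regular (y : Y) : IsRegularLocalRing (Y.presheaf.stalk y) := by
  haveI := h.smooth
  letI : Y.Over (Spec (CommRingCat.of k)) := ⟨π ≫ (X ↘ Spec (CommRingCat.of k))⟩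
  haveI : Smooth (Y ↘ Spec (CommRingCat.of k)) := h.smooth
  refine Node.AtWorst.regular_of_smooth k Y ?_
  rw [Scheme.Hom.smoothLocus_eq_top]
  trivial

include h in
theorem isNormal : Pi1.IsNormalScheme Y := fun y => by
  haveI := stalk_regular h y
  haveI := Regular.Quotient.isDomain (Y.presheaf.stalk y)
  exact ⟨inferInstance, Regular.UFD.isIntegrallyClosed (Y.presheaf.stalk y)⟩

include h in
theorem isDomain_stalk (y : Y) : IsDomain (Y.presheaf.stalk y) := (isNormal h y).1

include h in
theorem isNoetherian_base : IsNoetherian X := Curves.GlobalSections.isNoetherian_of_proper k X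

include h in
theorem noetherian_source : NoetherianSpace Y := by
  haveI := isNoetherian_base h
  haveI : IsLocallyNoetherian Y := LocallyOfFiniteType.isLocallyNoetherian π
  haveI : CompactSpace Y := QuasiCompact.compactSpace_of_compactSpace π
  haveI : IsNoetherian Y := {}
  infer_instance

include h in
/-- `(π_* O)_x` is generated by `1` over `U`. -/
theorem one_generates {x : X} (hx : x ∈ U)
    (w : ((Coh.push π).obj (Coh.structureModule Y)).presheaf.stalk x) :
    ∃ c : X.presheaf.stalk x, c • PushPull.one π x = w := by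
  haveI := h.iso
  haveI := isReduced h
  have hs : Subsingleton ((cokernel (ClSub.unitToPush π)).presheaf.stalk x) := by
    by_contra hn
    exact (Curves.Birational.support_cokernel_unit π U hn) hx
  obtain ⟨c⟩ := Normalization.CokerStalk.exists_cokernel_stalk_equiv (ClSub.unitToPush π) x
  haveI := c.symm.injective.subsingleton
  obtain ⟨v, hv⟩ := (Submodule.Quotient.mk_eq_zero _).mp
    (Subsingleton.elim (Submodule.Quotient.mk (p := LinearMap.range (stalkMapₗ (ClSub.unitToPush π) x)) w) 0)
  obtain ⟨a, rfl⟩ := Normalization.CokerStalk.exists_smul_germ_one X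
    (U := ⊤) (show x ∈ (⊤ : X.Opens) from trivial) v
  exact ⟨a, by rw [← hv, map_smul]; rfl⟩

include h in
/-- `r ↦ r • 1` is injective and `(π_* O)_x` is torsion-free. -/
theorem one_injective (x : X) :
    Function.Injective fun r : X.presheaf.stalk x => r • PushPull.one π x := by
  haveI := h.iso
  haveI := isReduced h
  haveI := isNoetherian_base h
  obtain ⟨e, he⟩ := Curves.NormStalk.exists_stalk_equiv π (dense_base h) (isNormal h) h.dense x
  intro r s hrs
  have h1 := congrArg e hrs
  simp only [map_smul] at h1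
  rw [show e (PushPull.one π x) = 1 from he] at h1
  refine IsFractionRing.injective (X.presheaf.stalk x) (FractionRing (X.presheaf.stalk x)) ?_
  have h2 := congrArg Subtype.val h1
  simpa [Algebra.smul_def] using h2

include h in
theorem smul_eq_zero {E : Y.Modules} (hE : TorSh.IsTorsionFree E) {x : X} {f : X.presheaf.stalk x}
    (hf : f ∈ (X.presheaf.stalk x)⁰) (t : ((Scheme.Modules.pushforward π).obj E).presheaf.stalk x)
    (ht : f • t = 0) : t = 0 := by
  haveI := h.iso
  haveI := noetherian_source h
  exact Push.smul_eq_zero π h.dense (isDomain_stalk h) E hE hf t ht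

/-- The structure module is torsion-free. -/
theorem isTorsionFree_structure : TorSh.IsTorsionFree (Coh.structureModule Y) :=
  CurveBundle.Coherent.isTorsionFree
    (Push.isFinLocFree (TensorMod.LocFree.of_isInvertible SurfInt.H2Vanish.isInvertible_structure))

include h in
/-- The algebra at a node. -/
theorem node_facts {x : X} (hx : Curv2.IsNode k X x) :
    Module.length (X.presheaf.stalk x) (((Coh.push π).obj (Coh.structureModule Y)).presheaf.stalk x ⧸
      (X.presheaf.stalk x) ∙ PushPull.one π x) = 1 ∧
    PushPull.one π x ∉ IsLocalRing.maximalIdeal (X.presheaf.stalk x) •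
      (⊤ : Submodule (X.presheaf.stalk x) (((Coh.push π).obj (Coh.structureModule Y)).presheaf.stalk x)) ∧
    (∃ f ∈ IsLocalRing.maximalIdeal (X.presheaf.stalk x), f ∈ (X.presheaf.stalk x)⁰) ∧
    Module.length (X.presheaf.stalk x) (IsLocalRing.maximalIdeal (X.presheaf.stalk x)).Cotangent = (2 : ℕ) := by
  haveI := h.iso
  haveI := isReduced h
  haveI := isNoetherian_base h
  obtain ⟨e, he⟩ := Curves.NormStalk.exists_stalk_equiv π (dense_base h) (isNormal h) h.dense x
  replace he : e (PushPull.one π x) = 1 := he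
  let R := X.presheaf.stalk x
  let B := integralClosure R (FractionRing R)
  refine ⟨?_, fun hone => ?_, ?_, ?_⟩
  · refine (Submodule.Quotient.equiv _ (LinearMap.range (Algebra.linearMap R B)) e ?_).length_eq.trans
      (Curves.NormGenus.deltaInv_node k X hx)
    rw [Submodule.map_span, Set.image_singleton, LinearEquiv.coe_coe, he]
    refine le_antisymm ((Submodule.span_singleton_le_iff_mem _ _).2 ⟨1, by simp⟩) ?_
    rintro _ ⟨r, rfl⟩
    exact Submodule.mem_span_singleton.2 ⟨r, by simp [Algebra.smul_def]⟩
  · have h1 := Submodule.mem_map_of_mem (f := e.toLinearMap) hone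
    rw [Submodule.map_smul'', LinearEquiv.coe_coe, he] at h1
    refine NodeAlg.one_notMem_smul_top B (fun r s hrs => IsFractionRing.injective R (FractionRing R)
      (congrArg Subtype.val hrs)) (Submodule.smul_mono le_rfl le_top h1)
  · obtain ⟨hred, hdim⟩ := Node.AtWorst.node_props k X hx
    haveI := hred
    refine TFOne.Generic.exists_mem_nonZeroDivisors _ fun p hp hle => ?_
    have hpm : p = IsLocalRing.maximalIdeal R :=
      le_antisymm (IsLocalRing.le_maximalIdeal (Ideal.minimalPrimes_isPrime hp).ne_top) hle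
    have h0 : (IsLocalRing.maximalIdeal R).height = 0 :=
      Ideal.height_eq_zero_iff.2 (hpm ▸ hp)
    have h1 := IsLocalRing.maximalIdeal_height_eq_ringKrullDim (R := R)
    rw [h0, hdim] at h1
    exact absurd h1 (by simp)
  · haveI : IsLocallyNoetherian X := inferInstance
    obtain ⟨-, -, hn⟩ := (Node.Sch.isNode_iff k X x).1 hx
    have h2 : Module.length R (R ⧸ IsLocalRing.maximalIdeal R ^ 2) = ((2 + 1 : ℕ) : ℕ∞) := hn.length 1
    rw [Module.length_eq_of_surjective (R := IsLocalRing.ResidueField R)
      (M := IsLocalRing.CotangentSpace R) IsLocalRing.residue_surjective, Module.length_eq_finrank,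
      H25.Node.finrank_cotangentSpace_eq h2]

variable (F : X.Modules) [F.IsQuasicoherent] {r : ℕ} (E₀ : Y.Modules)
  (hE₀ : FlatMod.IsFinLocFreeOfRank r E₀) (p : (Scheme.Modules.pullback π).obj F ⟶ E₀) [Epi p]
  (hfree : ∀ x : X, ¬ Curv2.IsNode k X x →
    Nonempty (F.presheaf.stalk x ≃ₗ[X.presheaf.stalk x] (Fin r → X.presheaf.stalk x)))

include h hE₀ hfree in
/-- The kernel of `π_* π^* F → π_* E₀` is torsion. -/
theorem exists_smul_eq_zero (x : X)
    (z : ((Scheme.Modules.pushforward π).obj ((Scheme.Modules.pullback π).obj F)).presheaf.stalk x)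
    (hz : stalkMapₗ ((Scheme.Modules.pushforward π).map p) x z = 0) :
    ∃ f ∈ (X.presheaf.stalk x)⁰, f • z = 0 := by
  haveI := h.iso
  haveI := isReduced h
  haveI := isNoetherian_base h
  let N := (Scheme.Modules.pushforward π).obj ((Scheme.Modules.pullback π).obj F)
  let E' := (Scheme.Modules.pushforward π).obj E₀
  haveI := QCoh.Pullback.isQCoh_pullback π F
  haveI := CurveBundle.Coherent.isQCoh (Push.isFinLocFree hE₀)
  haveI : N.IsQuasicoherent :=
    QCoh.Pushforward.isQCoh_pushforward π (M := (Scheme.Modules.pullback π).obj F)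
  haveI : E'.IsQuasicoherent := QCoh.Pushforward.isQCoh_pushforward π (M := E₀)
  obtain ⟨V, hV, hxV, -⟩ := exists_isAffineOpen_mem_and_subset (show x ∈ (⊤ : X.Opens) from trivial)
  obtain ⟨c, t, hc, hct⟩ := StalkLoc.Basic.exists_smul_eq_germ (M := N) hV hxV z
  have h1 : E'.presheaf.germ V x hxV (((Scheme.Modules.pushforward π).map p).app V t) = 0 := by
    rw [← stalkMapₗ_germ ((Scheme.Modules.pushforward π).map p) hxV t, ← hct, map_smul, hz, smul_zero]
  obtain ⟨g, hg, hgt⟩ := (StalkLoc.Basic.germ_eq_zero_iff (M := E') hV hxV _).mp h1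
  let t' : Γ(N, V) := g • t
  let I : Ideal Γ(X, V) := LinearMap.ker (LinearMap.toSpanSingleton Γ(X, V) Γ(N, V) t')
  haveI : IsNoetherianRing Γ(X, V) := IsLocallyNoetherian.component_noetherian ⟨V, hV⟩
  obtain ⟨f, hfI, hf⟩ := TFOne.Generic.exists_mem_nonZeroDivisors I fun q hq hle => by
    let q' : PrimeSpectrum Γ(X, V) := ⟨q, Ideal.minimalPrimes_isPrime hq⟩
    have hqV : hV.fromSpec q' ∈ V := by
      rw [← SetLike.mem_coe, ← hV.range_fromSpec]; exact Set.mem_range_self q'
    have hgen : hV.fromSpec q' ∈ genericPoints X := by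
      refine Flat55.GenericPoints.mem_of_forall_specializes fun y hy => ?_
      obtain ⟨q'', rfl⟩ : y ∈ Set.range hV.fromSpec := by
        rw [hV.range_fromSpec]; exact hy.mem_open V.isOpen hqV
      have hle' := (PrimeSpectrum.le_iff_specializes q'' q').mpr
        (hV.fromSpec.isOpenEmbedding.isInducing.specializes_iff.mp hy)
      have he : (q'' : PrimeSpectrum Γ(X, V)) = q' :=
        le_antisymm (α := PrimeSpectrum Γ(X, V)) hle' (hq.2 ⟨q''.isPrime, bot_le⟩ hle')
      exact congrArg hV.fromSpec he
    have hηU : hV.fromSpec q' ∈ U := Curves.NormStalk.generic_mem_dense (dense_base h) hgen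
    obtain ⟨φ⟩ := hfree _ ((h.mem_iff _).1 hηU)
    have h0 : N.presheaf.germ V _ hqV t' = 0 := by
      refine Push.injective_push π F E₀ hE₀ p hηU (fun w => one_generates h hηU w) φ ?_
      rw [map_zero, stalkMapₗ_germ, show ((Scheme.Modules.pushforward π).map p).app V t' = 0 by
        rw [show t' = g • t from rfl, Scheme.Modules.Hom.app_smul, hgt]]
      exact map_zero _
    obtain ⟨d, hd, hdt⟩ := (StalkLoc.Basic.germ_eq_zero_iff (M := N) hV hqV t').mp h0
    have h1 : q' ∈ hV.fromSpec ⁻¹ᵁ X.basicOpen d := hd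
    rw [hV.fromSpec_preimage_basicOpen] at h1
    exact h1 (hle (show d ∈ I from hdt))
  letI : Algebra Γ(X, V) (X.presheaf.stalk x) :=
    TopCat.Presheaf.algebra_section_stalk X.presheaf (⟨x, hxV⟩ : V)
  haveI := hV.isLocalization_stalk ⟨x, hxV⟩
  refine ⟨X.presheaf.germ V x hxV f,
    IsLocalization.nonZeroDivisors_le_comap (hV.primeIdealOf ⟨x, hxV⟩).asIdeal.primeCompl
      (X.presheaf.stalk x) hf, ?_⟩
  have h2 : X.presheaf.germ V x hxV f • X.presheaf.germ V x hxV g • X.presheaf.germ V x hxV c • z = 0 := by
    rw [hct, ← StalkModule.germ_smul hxV, ← StalkModule.germ_smul hxV, show f • t' = 0 from hfI,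
      map_zero]
  rw [smul_comm, ((X.mem_basicOpen g x hxV).mp hg).smul_eq_zero, smul_comm,
    ((X.mem_basicOpen c x hxV).mp hc).smul_eq_zero] at h2
  exact h2

variable {b : ℕ}

include h in
/-- The unit is injective on the stalk at a point where `F` has free coordinates. -/
theorem unit_stalk_injective {x : X} {a : ℕ}
    (φ : F.presheaf.stalk x ≃ₗ[X.presheaf.stalk x] (Fin a → X.presheaf.stalk x) ×
      (Fin b → IsLocalRing.maximalIdeal (X.presheaf.stalk x))) :
    Function.Injective (stalkMapₗ (PushPull.unit π F) x) := by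
  obtain ⟨e, he⟩ := PushPull.exists_stalk_equiv π F x
  intro v w hvw
  exact NodeAlg.tmul_injective φ (one_injective h x) ((he v).symm.trans ((congrArg e hvw).trans (he w)))

include h in
/-- The length of the cokernel of the unit at a node. -/
theorem length_coker_unit {x : X} (hx : Curv2.IsNode k X x) {a : ℕ}
    (φ : F.presheaf.stalk x ≃ₗ[X.presheaf.stalk x] (Fin a → X.presheaf.stalk x) ×
      (Fin b → IsLocalRing.maximalIdeal (X.presheaf.stalk x))) :
    Module.length (X.presheaf.stalk x) ((cokernel (PushPull.unit π F)).presheaf.stalk x) =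
      ((a + 2 * b : ℕ) : ℕ∞) := by
  obtain ⟨h1, -, -, hc⟩ := node_facts h hx
  obtain ⟨e, he⟩ := PushPull.exists_stalk_equiv π F x
  obtain ⟨c⟩ := Normalization.CokerStalk.exists_cokernel_stalk_equiv (PushPull.unit π F) x
  obtain ⟨d⟩ := NodeAlg.exists_coker_equiv (F := F.presheaf.stalk x) h1
  refine (c.trans ((Submodule.Quotient.equiv _ _ e ?_).trans d)).length_eq.trans
    (NodeAlg.length_quot_smul_top φ hc)
  rw [← LinearMap.range_comp]
  exact congrArg LinearMap.range (LinearMap.ext he)

include h in
/-- The cokernel of the unit vanishes over `U`. -/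
theorem subsingleton_coker_unit {x : X} (hx : x ∈ U) :
    Subsingleton ((cokernel (PushPull.unit π F)).presheaf.stalk x) := by
  haveI := h.iso
  obtain ⟨c⟩ := Normalization.CokerStalk.exists_cokernel_stalk_equiv (PushPull.unit π F) x
  have := LinearMap.range_eq_top.2 (Push.unit_surjective π F hx fun w => one_generates h hx w)
  haveI := Submodule.Quotient.subsingleton_iff.2 this
  exact c.toEquiv.subsingleton

set_option maxHeartbeats 800000 in
include h hE₀ hfree in
/-- The facts about `β = unit ≫ π_* p` at a node. -/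
theorem beta_facts {x : X} (hx : Curv2.IsNode k X x) {a : ℕ}
    (φ : F.presheaf.stalk x ≃ₗ[X.presheaf.stalk x] (Fin a → X.presheaf.stalk x) ×
      (Fin b → IsLocalRing.maximalIdeal (X.presheaf.stalk x))) :
    Function.Injective (stalkMapₗ (PushPull.unit π F ≫ (Scheme.Modules.pushforward π).map p) x) ∧
    Module.length (X.presheaf.stalk x)
      ((cokernel (PushPull.unit π F ≫ (Scheme.Modules.pushforward π).map p)).presheaf.stalk x) = (a : ℕ∞) := by
  obtain ⟨h1, hm, ⟨f₀, hf₀, hf₀'⟩, -⟩ := node_facts h hx
  obtain ⟨e, he⟩ := PushPull.exists_stalk_equiv π F x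
  haveI := h.iso
  let q := (stalkMapₗ ((Scheme.Modules.pushforward π).map p) x).comp e.symm.toLinearMap
  obtain ⟨hi, hl⟩ := NodeAlg.quotient_facts φ h1 (one_injective h x) hm
    (fun f hf t ht => smul_eq_zero h isTorsionFree_structure hf t ht) hf₀ hf₀' q
    ((Push.surjective_push π F E₀ hE₀ p x).comp e.symm.surjective)
    (fun f hf t ht => smul_eq_zero h (CurveBundle.Coherent.isTorsionFree (Push.isFinLocFree hE₀)) hf t ht)
    (fun z hz => by
      obtain ⟨f, hf, hfz⟩ := exists_smul_eq_zero h F E₀ hE₀ p hfree x _ hz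
      exact ⟨f, hf, e.symm.injective (by rw [map_smul, map_zero]; exact hfz)⟩)
  have hq : q.comp (TensorProduct.mk _ _ _ (PushPull.one π x)) =
      stalkMapₗ (PushPull.unit π F ≫ (Scheme.Modules.pushforward π).map p) x := LinearMap.ext fun v => by
    rw [StalkModule.stalkMapₗ_comp]
    exact congrArg (stalkMapₗ ((Scheme.Modules.pushforward π).map p) x) (e.symm_apply_eq.2 (he v).symm)
  rw [hq] at hi hl
  obtain ⟨c⟩ := Normalization.CokerStalk.exists_cokernel_stalk_equiv
    (PushPull.unit π F ≫ (Scheme.Modules.pushforward π).map p) x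
  exact ⟨hi, c.length_eq.trans hl⟩

include h hE₀ hfree in
/-- Over `U` the map `β` is bijective on stalks. -/
theorem beta_bijective {x : X} (hx : x ∈ U) :
    Function.Bijective (stalkMapₗ (PushPull.unit π F ≫ (Scheme.Modules.pushforward π).map p) x) := by
  haveI := h.iso
  obtain ⟨φ⟩ := hfree x ((h.mem_iff x).1 hx)
  have hu : Function.Injective (stalkMapₗ (PushPull.unit π F) x) := unit_stalk_injective h F (a := r) (b := 0)
    (φ.trans (LinearEquiv.prodUnique.symm : _ ≃ₗ[X.presheaf.stalk x] _))
  rw [StalkModule.stalkMapₗ_comp]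
  exact ⟨(Push.injective_push π F E₀ hE₀ p hx (fun w => one_generates h hx w) φ).comp hu,
    (Push.surjective_push π F E₀ hE₀ p x).comp (Push.unit_surjective π F hx fun w => one_generates h hx w)⟩

end Groth.Agent.Lib.TFNodal.Node
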