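import Groth.Agent.Lib.TFNodal.Spread
import Groth.Agent.Lib.TFNodal.Node
import Groth.Agent.Lib.Modules.SubStalk
import Groth.Agent.Lib.Modules.FreeStalk

/-!
# Enlarging a torsion-free module on a nodal curve to a locally free one

Inside `Hom(I, F)`, for `I` the ideal of the nodes, take at a node the lattice of the free module.
-/

set_option autoImplicit false
set_option linter.style.haveILetI false
set_option linter.unusedSectionVars false

universe u

open CategoryTheory CategoryTheory.Limits AlgebraicGeometry TopologicalSpace Opposite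
open scoped nonZeroDivisors

noncomputable section

namespace Groth.Agent.Lib.TFNodal.Enlarge

open Groth.Agent.Lib Groth.Agent.Lib.Modules
open Groth.Agent.Lib.Modules.StalkModule (stalkMapₗ stalkMapₗ_germ)

variable {X : Scheme.{u}}

/-- The germs at `y` of the ideal of a closed set. -/
theorem mem_range_aι (Z : Closeds X) {x : X} (r : X.presheaf.stalk x) (V : X.Opens) (hxV : x ∈ V)
    (hr : ∀ z, z ∈ Z → z ∈ V → z = x ∧ r ∈ IsLocalRing.maximalIdeal (X.presheaf.stalk x)) :
    r ∈ LinearMap.range (SqZeroLift.aι (Scheme.IdealSheafData.vanishingIdeal Z) x) := by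
  set I := Scheme.IdealSheafData.vanishingIdeal (X := X) Z
  obtain ⟨V₁, hxV₁, s, rfl⟩ := TopCat.Presheaf.exists_germ_eq X.presheaf r
  obtain ⟨W, hW, hxW, hWV⟩ := exists_isAffineOpen_mem_and_subset (U := V₁ ⊓ V) (x := x) ⟨hxV₁, hxV⟩
  have hW₁ : W ≤ V₁ := fun y hy => (hWV hy).1
  let s' : Γ(X, W) := X.presheaf.map (homOfLE hW₁).op s
  have e : X.presheaf.germ W x hxW s' = X.presheaf.germ V₁ x hxV₁ s :=
    TopCat.Presheaf.germ_res_apply X.presheaf (homOfLE hW₁) x hxW s
  have hs : s' ∈ I.ideal ⟨W, hW⟩ := by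
    rw [Scheme.IdealSheafData.vanishingIdeal_ideal, PrimeSpectrum.mem_vanishingIdeal]
    intro p hp
    by_contra hc
    have h1 : hW.fromSpec p ∈ X.basicOpen s' := (hW.fromSpec_preimage_basicOpen s').ge hc
    have hpW : hW.fromSpec p ∈ W := by
      rw [← SetLike.mem_coe, ← hW.range_fromSpec]; exact Set.mem_range_self p
    obtain ⟨hpx, hrm⟩ := hr _ hp (hWV hpW).2
    rw [hpx] at h1
    exact (IsLocalRing.mem_maximalIdeal _).mp hrm (e ▸ (X.mem_basicOpen s' x hxW).mp h1)
  have hk : I.subschemeι.app W s' = 0 := by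
    rw [← I.ker_subschemeι_app ⟨W, hW⟩] at hs
    exact hs
  obtain ⟨m, hm⟩ := (ClSub.Sections.mem_range_idealModι_app_iff I W s').2 hk
  exact ⟨_, by rw [SqZeroLift.aι_germ I hxW m, hm, e]⟩

/-- The germs of the ideal at its points are non-units. -/
theorem aι_mem_maximalIdeal (Z : Closeds X) {x : X} (hx : x ∈ Z)
    (t : (ClSub.idealMod (Scheme.IdealSheafData.vanishingIdeal Z)).presheaf.stalk x) :
    SqZeroLift.aι (Scheme.IdealSheafData.vanishingIdeal Z) x t ∈
      IsLocalRing.maximalIdeal (X.presheaf.stalk x) := by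
  let I := Scheme.IdealSheafData.vanishingIdeal (X := X) Z
  have key : ∀ y ∈ Set.range I.subschemeι, ∀ t, ¬ IsUnit (SqZeroLift.aι I y t) := by
    rintro _ ⟨z, rfl⟩ t hu
    have h0 := hu.map (I.subschemeι.stalkMap z).hom
    rw [SqZeroLift.stalkMap_aι] at h0
    exact not_isUnit_zero h0
  refine (IsLocalRing.mem_maximalIdeal _).mpr (key x ?_ t)
  rw [Scheme.IdealSheafData.range_subschemeι, Scheme.IdealSheafData.coe_support_vanishingIdeal]
  exact hx

/-- The ideal module of a closed set is coherent. -/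
theorem isCoh_idealMod [IsLocallyNoetherian X] (K : X.IdealSheafData) : Coh.IsCoh (ClSub.idealMod K) := by
  haveI := Ample.QAffCrit.isQCoh_idealMod K
  refine CohBasics.Closure.isCoh_of_finite_sections fun W hW => ?_
  haveI : IsNoetherianRing Γ(X, W) := IsLocallyNoetherian.component_noetherian ⟨W, hW⟩
  haveI : Mono (_root_.ClSub.idealModι K) := (ClSub.Quot.idealSeq_shortExact K).mono_f
  let f : Γ(ClSub.idealMod K, W) →ₗ[Γ(X, W)] Γ(X, W) :=
    { toFun := fun t => ((_root_.ClSub.idealModι K).app W t : Γ(X, W))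
      map_add' := fun s t => map_add _ s t
      map_smul' := fun c t => Scheme.Modules.Hom.app_smul _ c t }
  exact Module.Finite.of_injective f
    ((Modules.Stalk.mono_iff_app_injective _).1 inferInstance W)

theorem isCoh_freeMod [IsLocallyNoetherian X] (n : ℕ) : Coh.IsCoh (FlatMod.freeMod X n) :=
  CurveBundle.Coherent.isCoh fun _ => ⟨⊤, n, trivial, ⟨Modules.Free.restrictFreeIso (⊤ : X.Opens).ι n⟩⟩

/-- Germs of generators of the sections over an affine open span the stalks. -/
theorem span_germ_eq_top {M : X.Modules} [M.IsQuasicoherent] {W : X.Opens} (hW : IsAffineOpen W)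
    {n : ℕ} {s : Fin n → Γ(M, W)} (hs : Submodule.span Γ(X, W) (Set.range s) = ⊤) {y : X} (hy : y ∈ W) :
    Submodule.span (X.presheaf.stalk y) (Set.range fun i => M.presheaf.germ W y hy (s i)) = ⊤ := by
  rw [eq_top_iff]
  intro v _
  obtain ⟨c, t, hc, hct⟩ := StalkLoc.Basic.exists_smul_eq_germ hW hy v
  refine (Submodule.smul_mem_iff_of_isUnit _ ((X.mem_basicOpen c y hy).mp hc)).1 ?_
  rw [hct]
  have ht : t ∈ Submodule.span Γ(X, W) (Set.range s) := hs ▸ trivial
  clear hct hc
  induction ht using Submodule.span_induction with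
  | mem a ha =>
    obtain ⟨i, rfl⟩ := ha
    exact Submodule.subset_span ⟨i, rfl⟩
  | zero => rw [map_zero]; exact zero_mem _
  | add a b _ _ ha hb => rw [map_add]; exact add_mem ha hb
  | smul a b _ hb => rw [StalkModule.germ_smul]; exact Submodule.smul_mem _ _ hb

section algebra

variable {R : Type u} [CommRing R] [IsLocalRing R] {I F : Type u} [AddCommGroup I] [Module R I]
  [AddCommGroup F] [Module R F] (α : I →ₗ[R] IsLocalRing.maximalIdeal R) {a b : ℕ}
  (φ : F ≃ₗ[R] (Fin a → R) × (Fin b → IsLocalRing.maximalIdeal R))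

/-- The lattice of the free module inside `Hom(I, F)`. -/
def lattice : (Fin a → R) × (Fin b → R) →ₗ[R] (I →ₗ[R] F) where
  toFun p := φ.symm.toLinearMap.comp
    ((((IsLocalRing.maximalIdeal R).subtype.comp α).smulRight p.1).prod
      (LinearMap.pi fun j => p.2 j • α))
  map_add' p q := LinearMap.ext fun t => φ.injective <| by
    simp only [LinearMap.comp_apply, LinearMap.add_apply, LinearEquiv.coe_coe, map_add,
      LinearEquiv.apply_symm_apply]
    refine Prod.ext (funext fun i => ?_) (funext fun j => Subtype.ext ?_)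
    · exact mul_add _ _ _
    · exact add_mul _ _ _
  map_smul' c p := LinearMap.ext fun t => φ.injective <| by
    simp only [LinearMap.comp_apply, LinearMap.smul_apply, LinearEquiv.coe_coe, map_smul,
      LinearEquiv.apply_symm_apply, RingHom.id_apply]
    refine Prod.ext (funext fun i => ?_) (funext fun j => Subtype.ext ?_)
    · exact mul_left_comm _ _ _
    · exact mul_assoc _ _ _

theorem lattice_apply (p : (Fin a → R) × (Fin b → R)) (t : I) :
    lattice α φ p t = φ.symm ((α t : R) • p.1, fun j => p.2 j • α t) := rfl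

theorem lattice_injective {f : R} (hf : f ∈ R⁰) {t : I} (ht : (α t : R) = f) :
    Function.Injective (lattice α φ) := by
  refine (injective_iff_map_eq_zero _).mpr fun p hp => ?_
  have h := congrArg φ (LinearMap.congr_fun hp t)
  rw [lattice_apply, φ.apply_symm_apply, LinearMap.zero_apply, map_zero] at h
  refine Prod.ext (funext fun i => ?_) (funext fun j => ?_)
  · have h1 := congrFun (congrArg Prod.fst h) i
    rw [ht] at h1
    exact mul_left_mem_nonZeroDivisors_eq_zero_iff hf |>.mp h1
  · have h1 := congrArg Subtype.val (congrFun (congrArg Prod.snd h) j)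
    change p.2 j * (α t : R) = 0 at h1
    rw [ht] at h1
    exact mul_right_mem_nonZeroDivisors_eq_zero_iff hf |>.mp h1

/-- The inclusion `R^a × m^b ⊆ R^a × R^b`. -/
def incl : (Fin a → R) × (Fin b → IsLocalRing.maximalIdeal R) →ₗ[R] (Fin a → R) × (Fin b → R) :=
  LinearMap.prodMap LinearMap.id (LinearMap.pi fun j => (IsLocalRing.maximalIdeal R).subtype.comp (LinearMap.proj j))

theorem lattice_incl (v : F) (t : I) : lattice α φ (incl (φ v)) t = (α t : R) • v := by
  refine φ.injective ?_
  rw [lattice_apply, φ.apply_symm_apply, map_smul]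
  refine Prod.ext rfl (funext fun j => Subtype.ext ?_)
  show ((φ v).2 j : R) * (α t : R) = (α t : R) * ((φ v).2 j : R)
  rw [mul_comm]

/-- The quotient by the inclusion. -/
theorem exists_quot_incl :
    Nonempty ((((Fin a → R) × (Fin b → R)) ⧸ (LinearMap.range (incl (R := R) (a := a) (b := b))))
      ≃ₗ[R] (Fin b → R ⧸ IsLocalRing.maximalIdeal R)) := by
  let q : (Fin a → R) × (Fin b → R) →ₗ[R] (Fin b → R ⧸ IsLocalRing.maximalIdeal R) :=
    (LinearMap.pi fun j => (Submodule.mkQ _).comp (LinearMap.proj j)).comp (LinearMap.snd R _ _)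
  have hq : Function.Surjective q := fun y => by
    choose z hz using fun j => Submodule.mkQ_surjective _ (y j)
    exact ⟨(0, z), funext hz⟩
  have hk : LinearMap.ker q = LinearMap.range (incl (R := R) (a := a) (b := b)) := by
    refine le_antisymm (fun p hp => ?_) ?_
    · exact ⟨(p.1, fun j => ⟨p.2 j, (Submodule.Quotient.mk_eq_zero _).mp (congrFun hp j)⟩), rfl⟩
    · rintro _ ⟨p, rfl⟩
      exact funext fun j => (Submodule.Quotient.mk_eq_zero _).mpr (p.2 j).2
  exact ⟨(Submodule.quotEquivOfEq _ _ hk.symm).trans (LinearMap.quotKerEquivOfSurjective q hq)⟩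

end algebra

variable {k : Type u} [Field k] [IsAlgClosed k] [X.Over (Spec (CommRingCat.of k))]
  [IsProper (X ↘ Spec (CommRingCat.of k))]

/-- An at worst nodal curve has finitely many nodes. -/
theorem finite_nodes (hnod : Curv2.AtWorstNodal k X) (hdim : topologicalKrullDim X ≤ 1) :
    {y : X | Curv2.IsNode k X y}.Finite := by
  haveI := H25.Node.AtWorst.isReduced k X hnod
  haveI := Curves.GlobalSections.noetherianSpace_of_proper k X
  obtain ⟨V, hd, hV⟩ := (S1549.result k X).1 (H25.Node.AtWorst.geometricallyReduced k X hnod)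
  refine (Curves.Birational.finite_compl (X ↘ Spec (CommRingCat.of k)) hdim V.2 hd).subset
    fun y hy hyV => ?_
  have h0 := Curves.NormGenus.deltaInv_smooth k X
    ((H25.Node.AtWorst.exists_smooth_iff k X y).1 ⟨V, hyV, hV⟩)
  rw [Curves.NormGenus.deltaInv_node k X hy] at h0
  exact one_ne_zero h0

/-- **A torsion-free module of given types embeds in a locally free one with cokernel `k^(r-a)` at
the nodes.** -/
theorem exists_locFree (hnod : Curv2.AtWorstNodal k X) (hdim : topologicalKrullDim X ≤ 1)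
    (r : ℕ) (F : X.Modules) (hF : Coh.IsCoh F) (a : X → ℕ)
    (hfree : ∀ x : X, ¬ Curv2.IsNode k X x →
      Nonempty (F.presheaf.stalk x ≃ₗ[X.presheaf.stalk x] (Fin r → X.presheaf.stalk x)))
    (htype : ∀ x : X, Curv2.IsNode k X x → a x ≤ r ∧
      Nonempty (F.presheaf.stalk x ≃ₗ[X.presheaf.stalk x]
        ((Fin (a x) → X.presheaf.stalk x) × (Fin (r - a x) → IsLocalRing.maximalIdeal (X.presheaf.stalk x))))) :
    ∃ (G : X.Modules) (j : F ⟶ G), FlatMod.IsFinLocFreeOfRank r G ∧ Mono j ∧
      (∀ x : X, ¬ Curv2.IsNode k X x → Subsingleton ((cokernel j).presheaf.stalk x)) ∧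
      (∀ x : X, Curv2.IsNode k X x →
        IsLocalRing.maximalIdeal (X.presheaf.stalk x) • (⊤ : Submodule (X.presheaf.stalk x) ((cokernel j).presheaf.stalk x)) = ⊥ ∧
        Module.length (X.presheaf.stalk x) ((cokernel j).presheaf.stalk x) = ((r - a x : ℕ) : ℕ∞)) := by
  classical
  haveI : IsLocallyNoetherian X :=
    LocallyOfFiniteType.isLocallyNoetherian (X ↘ Spec (CommRingCat.of k))
  haveI := hF.1
  have hfin := finite_nodes hnod hdim
  have hcl : ∀ T ⊆ {y : X | Curv2.IsNode k X y}, IsClosed T := fun T hT => by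
    rw [← Set.biUnion_of_singleton T]
    exact (hfin.subset hT).isClosed_biUnion fun y hy => (hT hy).1
  let Z : Closeds X := ⟨{y | Curv2.IsNode k X y}, hcl _ subset_rfl⟩
  let Vx : X → X.Opens := fun x => ⟨({y | Curv2.IsNode k X y} \ {x})ᶜ, (hcl _ Set.sdiff_subset).isOpen_compl⟩
  let I := ClSub.idealMod (Scheme.IdealSheafData.vanishingIdeal Z)
  have hI : Coh.IsCoh I := isCoh_idealMod _
  let A := _root_.RefHull.homSh I F
  have hA : Coh.IsCoh A := RefHull.HomSh.isCoh_homSh hI hF
  haveI := hA.1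
  let al : ∀ y : X, I.presheaf.stalk y →ₗ[X.presheaf.stalk y] X.presheaf.stalk y := fun y =>
    SqZeroLift.aι (Scheme.IdealSheafData.vanishingIdeal Z) y
  let c : ∀ y : X, A.presheaf.stalk y ≃ₗ[X.presheaf.stalk y] _root_.RefHull.StalkHom I F y := fun y =>
    LinearEquiv.ofBijective _ (RefHull.HomSh.evalStalk_bijective hI y)
  let μ : ∀ y : X, F.presheaf.stalk y →ₗ[X.presheaf.stalk y] _root_.RefHull.StalkHom I F y := fun y =>
    LinearMap.smulRightₗ (al y)
  let ψ : ∀ y : X, F.presheaf.stalk y →ₗ[X.presheaf.stalk y] A.presheaf.stalk y := fun y =>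
    (c y).symm.toLinearMap.comp (μ y)
  obtain ⟨j₀, hj₀⟩ := FundLocal.OfStalk.exists_hom ψ fun y v => by
    obtain ⟨V, hyV, s, rfl⟩ := TopCat.Presheaf.exists_germ_eq F.presheaf v
    let t : Γ(A, V) := ⟨fun z => μ z.1 (F.presheaf.germ V z.1 z.2 s), fun V' i m z =>
      ⟨V', z.2, 𝟙 V', (show Γ(X, V') from (ClSub.idealModι (Scheme.IdealSheafData.vanishingIdeal Z)).app V' m) •
        F.presheaf.map i.op s, fun w => by
          show al w.1 (I.presheaf.germ V' w.1 w.2 m) • F.presheaf.germ V w.1 (i.le w.2) s = _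
          rw [StalkModule.germ_smul, TopCat.Presheaf.germ_res_apply F.presheaf i w.1 w.2 s]
          exact congrArg (· • _) (SqZeroLift.aι_germ _ w.2 m)⟩⟩
    refine ⟨V, hyV, s, t, rfl, fun z hz => ?_⟩
    refine (LinearEquiv.symm_apply_eq _).2 ?_
    exact (_root_.RefHull.evalStalk_germ I F z hz t).symm
  have hψoff : ∀ y, ¬ Curv2.IsNode k X y → Function.Bijective (ψ y) := fun y hy => by
    have hs : Function.Surjective (al y) := fun r => mem_range_aι Z r (Vx y) (fun h => h.2 rfl)
      fun z hz hzV => absurd (not_not.1 fun hne => hzV ⟨hz, hne⟩ : z = y) fun e => hy (e ▸ hz)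
    let e : I.presheaf.stalk y ≃ₗ[X.presheaf.stalk y] X.presheaf.stalk y :=
      LinearEquiv.ofBijective (al y) ⟨SqZeroLift.aι_injective _ y, hs⟩
    refine (c y).symm.bijective.comp ⟨(injective_iff_map_eq_zero _).mpr fun v hv => ?_, fun g => ?_⟩
    · obtain ⟨t, ht⟩ := hs 1
      have h := LinearMap.congr_fun hv t
      simpa [μ, ht] using h
    · refine ⟨g (e.symm 1), LinearMap.ext fun t => ?_⟩
      show al y t • g (e.symm 1) = g t
      rw [← map_smul, ← map_smul, smul_eq_mul, mul_one]
      exact congrArg g (e.symm_apply_apply t)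
  -- at a node
  let φ := fun (y : X) (hy : Curv2.IsNode k X y) => (htype y hy).2.some
  let α : ∀ (y : X), Curv2.IsNode k X y →
      (I.presheaf.stalk y →ₗ[X.presheaf.stalk y] IsLocalRing.maximalIdeal (X.presheaf.stalk y)) :=
    fun y hy => LinearMap.codRestrict _ (al y) (aι_mem_maximalIdeal Z hy)
  let Ψ := fun (y : X) (hy : Curv2.IsNode k X y) =>
    (c y).symm.toLinearMap.comp (lattice (α y hy) (φ y hy))
  let S : SubStalk.Family A := fun y => if hy : Curv2.IsNode k X y then LinearMap.range (Ψ y hy) else ⊤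
  have hψΨ : ∀ (y : X) (hy : Curv2.IsNode k X y) (v : F.presheaf.stalk y),
      Ψ y hy (incl (φ y hy v)) = ψ y v := fun y hy v => congrArg (c y).symm
    (LinearMap.ext fun t => lattice_incl (α y hy) (φ y hy) v t)
  have hψS : ∀ (y : X) (v : F.presheaf.stalk y), ψ y v ∈ S y := fun y v => by
    by_cases hy : Curv2.IsNode k X y
    · simp only [S, dif_pos hy]
      exact ⟨_, hψΨ y hy v⟩
    · simp only [S, dif_neg hy]
      trivial
  have hΨinj : ∀ (y : X) (hy : Curv2.IsNode k X y), Function.Injective (Ψ y hy) := fun y hy => by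
    haveI := (H25.Node.AtWorst.node_props k X hy).1
    obtain ⟨f, hf, hf'⟩ : ∃ f ∈ IsLocalRing.maximalIdeal (X.presheaf.stalk y), f ∈ (X.presheaf.stalk y)⁰ := by
      refine TFOne.Generic.exists_mem_nonZeroDivisors _ fun p hp hle => ?_
      have hpm : p = IsLocalRing.maximalIdeal (X.presheaf.stalk y) :=
        le_antisymm (IsLocalRing.le_maximalIdeal (Ideal.minimalPrimes_isPrime hp).ne_top) hle
      have h0 : (IsLocalRing.maximalIdeal (X.presheaf.stalk y)).height = 0 :=
        Ideal.height_eq_zero_iff.2 (hpm ▸ hp)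
      have h1 := IsLocalRing.maximalIdeal_height_eq_ringKrullDim (R := X.presheaf.stalk y)
      rw [h0, (H25.Node.AtWorst.node_props k X hy).2] at h1
      exact absurd h1 (by simp)
    obtain ⟨t, ht⟩ := mem_range_aι Z f (Vx y) (fun h => h.2 rfl)
      fun z hz hzV => ⟨(not_not.1 fun hne => hzV ⟨hz, hne⟩ : z = y), hf⟩
    exact (c y).symm.injective.comp (lattice_injective (α y hy) (φ y hy) hf' ht)
  have hS : SubStalk.IsLocFG S ⊤ := by
    intro x _
    obtain ⟨W, hW, hxW, hWV⟩ := exists_isAffineOpen_mem_and_subset (U := Vx x) (x := x) fun h => h.2 rfl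
    have hWV' : ∀ y ∈ W, Curv2.IsNode k X y → y = x := fun y hy hn =>
      not_not.1 fun hne => hWV hy ⟨hn, hne⟩
    haveI := CohBasics.Closure.finite_sections hF hW
    obtain ⟨m, s, hs⟩ := Module.Finite.exists_fin (R := Γ(X, W)) (M := Γ(F, W))
    have hgerm : ∀ (y : X) (hy : y ∈ W) i, A.presheaf.germ W y hy (j₀.app W (s i)) =
        ψ y (F.presheaf.germ W y hy (s i)) := fun y hy i => by rw [← hj₀, stalkMapₗ_germ]
    have hspan : ∀ (y : X) (hy : y ∈ W), Submodule.span (X.presheaf.stalk y)
        (Set.range fun i => A.presheaf.germ W y hy (j₀.app W (s i))) = LinearMap.range (ψ y) := fun y hy => by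
      simp only [hgerm]
      rw [show (Set.range fun i => ψ y (F.presheaf.germ W y hy (s i))) =
        ψ y '' Set.range fun i => F.presheaf.germ W y hy (s i) from Set.range_comp _ _,
        Submodule.span_image, span_germ_eq_top hW hs hy, Submodule.map_top]
    by_cases hx : Curv2.IsNode k X x
    swap
    · refine ⟨W, hW, hxW, le_top, m, fun i => j₀.app W (s i), fun y hy => ?_⟩
      have hn : ¬ Curv2.IsNode k X y := fun hn => hx (hWV' y hy hn ▸ hn)
      rw [hspan y hy, LinearMap.range_eq_top.2 (hψoff y hn).2]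
      exact dif_neg hn
    · choose d t hd hdt using fun j : Fin (r - a x) => StalkLoc.Basic.exists_smul_eq_germ (M := A) hW hxW
        (Ψ x hx (0, Pi.single j 1))
      refine ⟨W, hW, hxW, le_top, m + (r - a x), Fin.append (fun i => j₀.app W (s i)) t, fun y hy => ?_⟩
      have hr : (Set.range fun i => A.presheaf.germ W y hy (Fin.append (fun i => j₀.app W (s i)) t i)) =
          (Set.range fun i => A.presheaf.germ W y hy (j₀.app W (s i))) ∪
            Set.range fun i => A.presheaf.germ W y hy (t i) := by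
        ext v
        simp only [Set.mem_range, Set.mem_union]
        constructor
        · rintro ⟨i, rfl⟩
          refine Fin.addCases (fun i => Or.inl ⟨i, by rw [Fin.append_left]⟩)
            (fun i => Or.inr ⟨i, by rw [Fin.append_right]⟩) i
        · rintro (⟨i, rfl⟩ | ⟨i, rfl⟩)
          · exact ⟨Fin.castAdd _ i, by rw [Fin.append_left]⟩
          · exact ⟨Fin.natAdd _ i, by rw [Fin.append_right]⟩
      rw [hr, Submodule.span_union, hspan y hy]
      by_cases hn : Curv2.IsNode k X y
      swap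
      · rw [LinearMap.range_eq_top.2 (hψoff y hn).2, top_sup_eq]
        exact dif_neg hn
      obtain rfl := hWV' y hy hn
      simp only [S, dif_pos hn]
      have hu : ∀ j, IsUnit (X.presheaf.germ W y hy (d j)) := fun j => (X.mem_basicOpen (d j) y hy).mp (hd j)
      refine le_antisymm ?_ (sup_le ?_ ?_)
      · rintro _ ⟨p, rfl⟩
        have hp : p = incl (φ y hn ((φ y hn).symm (p.1, 0))) + ∑ j, p.2 j • ((0 : Fin (a y) → X.presheaf.stalk y), Pi.single j (1 : X.presheaf.stalk y)) := by
          rw [LinearEquiv.apply_symm_apply]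
          refine Prod.ext (funext fun i => ?_) (funext fun i => ?_)
          · simp [incl, Prod.fst_sum, Finset.sum_apply]
          · simp [incl, Prod.snd_sum, Finset.sum_apply, Pi.single_apply]
        rw [hp, map_add, map_sum]
        refine Submodule.add_mem_sup ⟨_, (hψΨ y hn _).symm⟩ (Submodule.sum_mem _ fun j _ => ?_)
        rw [map_smul]
        refine Submodule.smul_mem _ _ ((Submodule.smul_mem_iff_of_isUnit _ (hu j)).1 ?_)
        rw [hdt j]
        exact Submodule.subset_span ⟨j, rfl⟩
      · rintro _ ⟨v, rfl⟩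
        exact ⟨_, hψΨ y hn v⟩
      · rw [Submodule.span_le]
        rintro _ ⟨j, rfl⟩
        show A.presheaf.germ W y hy (t j) ∈ LinearMap.range (Ψ y hn)
        rw [← hdt j, ← map_smul]
        exact ⟨_, rfl⟩
  let G := SubStalk.subMod S
  have hG : Coh.IsCoh G := ⟨SubStalk.isQCoh_subMod hS, SubStalk.isFT_subMod hS⟩
  have hιr : ∀ y, LinearMap.range (stalkMapₗ (SubStalk.ι S) y) = S y := fun y =>
    SubStalk.range_stalkMapₗ_ι hS trivial
  have hιi : ∀ y, Function.Injective (stalkMapₗ (SubStalk.ι S) y) :=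
    (StalkModule.mono_iff_stalkMapₗ_injective _).1 inferInstance
  have hlift : j₀ ≫ cokernel.π (SubStalk.ι S) = 0 := by
    refine StalkModule.hom_ext_stalkMapₗ fun y => LinearMap.ext fun v => ?_
    obtain ⟨w, hw⟩ : ψ y v ∈ LinearMap.range (stalkMapₗ (SubStalk.ι S) y) := (hιr y).symm ▸ hψS y v
    rw [StalkModule.stalkMapₗ_comp, LinearMap.comp_apply, hj₀, ← hw, ← LinearMap.comp_apply,
      ← StalkModule.stalkMapₗ_comp, cokernel.condition, StalkModule.stalkMapₗ_zero, StalkModule.stalkMapₗ_zero]
    rfl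
  let j : F ⟶ G := Abelian.monoLift (SubStalk.ι S) j₀ hlift
  have hj : ∀ y v, stalkMapₗ (SubStalk.ι S) y (stalkMapₗ j y v) = ψ y v := fun y v => by
    rw [← LinearMap.comp_apply, ← StalkModule.stalkMapₗ_comp, Abelian.monoLift_comp, hj₀]
  -- the stalks of `G`
  let eN := fun (y : X) (hy : Curv2.IsNode k X y) => ((LinearEquiv.ofInjective _ (hΨinj y hy)).trans
    (LinearEquiv.ofEq _ _ ((hιr y).trans (dif_pos hy)).symm)).trans
      (LinearEquiv.ofInjective _ (hιi y)).symm
  have heN : ∀ (y : X) (hy : Curv2.IsNode k X y) v, stalkMapₗ j y v = eN y hy (incl (φ y hy v)) :=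
    fun y hy v => by
      refine hιi y ((hj y v).trans ?_)
      rw [← hψΨ y hy v]
      simp only [eN, LinearEquiv.trans_apply, LinearEquiv.ofInjective_symm_apply]
      rfl
  have hstalk : ∀ y, Nonempty (G.presheaf.stalk y ≃ₗ[X.presheaf.stalk y] (Fin r → X.presheaf.stalk y)) := by
    intro y
    by_cases hy : Curv2.IsNode k X y
    · exact ⟨(eN y hy).symm.trans ((LinearEquiv.sumArrowLequivProdArrow _ _ _ _).symm.trans
        (LinearEquiv.funCongrLeft _ _ ((finCongr (by have := (htype y hy).1; omega)).trans finSumFinEquiv.symm)))⟩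
    · obtain ⟨φ₀⟩ := hfree y hy
      exact ⟨((((LinearEquiv.ofInjective _ (hιi y)).trans
        (LinearEquiv.ofEq _ ⊤ ((hιr y).trans (dif_neg hy)))).trans Submodule.topEquiv).trans
          (LinearEquiv.ofBijective _ (hψoff y hy)).symm).trans φ₀⟩
  refine ⟨G, j, fun y => ?_, ?_, fun y hy => ?_, fun y hy => ?_⟩
  · obtain ⟨e⟩ := hstalk y
    obtain ⟨U, hyU, -, ⟨i⟩⟩ := Spread.exists_iso_restrict hG (isCoh_freeMod r)
      (e.trans (FreeStalk.stalkBasis X r y).equivFun.symm) (V := ⊤) trivial
    exact ⟨U, hyU, ⟨i ≪≫ Modules.Free.restrictFreeIso U.ι r⟩⟩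
  · rw [StalkModule.mono_iff_stalkMapₗ_injective]
    intro y v w h
    have h' : ψ y v = ψ y w := by rw [← hj, ← hj, h]
    by_cases hy : Curv2.IsNode k X y
    · rw [← hψΨ y hy, ← hψΨ y hy] at h'
      refine (φ y hy).injective ?_
      have h2 := hΨinj y hy h'
      exact Prod.ext (congrArg Prod.fst h2 :) (funext fun i => Subtype.ext (congrFun (congrArg Prod.snd h2) i))
    · exact (hψoff y hy).1 h'
  · obtain ⟨q⟩ := Normalization.CokerStalk.exists_cokernel_stalk_equiv j y
    have hs : LinearMap.range (stalkMapₗ j y) = ⊤ := LinearMap.range_eq_top.2 fun w => by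
      obtain ⟨v, hv⟩ := (hψoff y hy).2 (stalkMapₗ (SubStalk.ι S) y w)
      exact ⟨v, hιi y ((hj y v).trans hv)⟩
    haveI := Submodule.Quotient.subsingleton_iff.2 hs
    exact q.toEquiv.subsingleton
  · obtain ⟨q⟩ := Normalization.CokerStalk.exists_cokernel_stalk_equiv j y
    obtain ⟨q'⟩ := exists_quot_incl (R := X.presheaf.stalk y) (a := a y) (b := r - a y)
    have hr : Submodule.map (eN y hy).toLinearMap (LinearMap.range incl) = LinearMap.range (stalkMapₗ j y) := by
      refine le_antisymm ?_ ?_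
      · rintro _ ⟨_, ⟨p, rfl⟩, rfl⟩
        exact ⟨(φ y hy).symm p, by rw [heN y hy, LinearEquiv.apply_symm_apply]; rfl⟩
      · rintro _ ⟨v, rfl⟩
        exact ⟨_, ⟨φ y hy v, rfl⟩, (heN y hy v).symm⟩
    let Q := q.trans (((Submodule.Quotient.equiv _ _ (eN y hy) hr).symm).trans q')
    refine ⟨eq_bot_iff.2 (Submodule.smul_le.2 fun c hc z _ => Q.injective ?_), ?_⟩
    · rw [map_smul, map_zero]
      funext i
      obtain ⟨w, hw⟩ := Ideal.Quotient.mk_surjective (Q z i)
      show c • Q z i = 0
      rw [← hw]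
      exact Ideal.Quotient.eq_zero_iff_mem.2 (Ideal.mul_mem_right w _ hc)
    · haveI : IsSimpleModule (X.presheaf.stalk y) (X.presheaf.stalk y ⧸ IsLocalRing.maximalIdeal (X.presheaf.stalk y)) :=
        isSimpleModule_iff_isCoatom.2 (IsLocalRing.maximalIdeal.isMaximal _).1
      rw [Q.length_eq, Module.length_pi_of_fintype]
      simp [Module.length_eq_one]

end Groth.Agent.Lib.TFNodal.Enlarge
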