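import Groth.Agent.Lib.TFNodal.Node
import Groth.Agent.Lib.QCoh.Closure

/-!
# Maps out of `β : F → π_* E₀`
-/

set_option autoImplicit false
set_option linter.style.haveILetI false
set_option linter.unusedSectionVars false

universe u

open CategoryTheory CategoryTheory.Limits AlgebraicGeometry TopologicalSpace Opposite
open scoped nonZeroDivisors TensorProduct

noncomputable section

namespace Groth.Agent.Lib.TFNodal.Factor

open Groth.Agent.Lib Groth.Agent.Lib.Modules
open Groth.Agent.Lib.Modules.StalkModule (stalkMapₗ stalkMapₗ_germ)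

/-- Direct image along an affine morphism is faithful on maps out of quasi-coherent modules. -/
theorem eq_zero_of_push {X Y : Scheme.{u}} (π : Y ⟶ X) [IsAffineHom π] {K E : Y.Modules}
    [K.IsQuasicoherent] (g : K ⟶ E) (hg : (Scheme.Modules.pushforward π).map g = 0) : g = 0 := by
  refine StalkModule.hom_ext_stalkMapₗ fun y => LinearMap.ext fun v => ?_
  obtain ⟨V, hV, hyV, -⟩ := exists_isAffineOpen_mem_and_subset (show π y ∈ (⊤ : X.Opens) from trivial)
  obtain ⟨c, t, hc, hct⟩ :=
    StalkLoc.Basic.exists_smul_eq_germ (M := K) (hV.preimage π) (show y ∈ π ⁻¹ᵁ V from hyV) v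
  have h1 : g.app (π ⁻¹ᵁ V) t = 0 := by
    have h2 := congrArg (fun m => m.app V t) hg
    exact h2
  rw [StalkModule.stalkMapₗ_zero, LinearMap.zero_apply]
  refine ((Y.mem_basicOpen c y hyV).mp hc).smul_eq_zero.mp ?_
  rw [← map_smul, hct, stalkMapₗ_germ, h1, map_zero]

variable {k : Type u} [Field k] [IsAlgClosed k] {X : Scheme.{u}} [X.Over (Spec (CommRingCat.of k))]
  [IsProper (X ↘ Spec (CommRingCat.of k))] {Y : Scheme.{u}} {π : Y ⟶ X} [IsFinite π] {U : X.Opens}
  (h : Node.IsCtx k X π U) (F : X.Modules) [F.IsQuasicoherent] {r : ℕ} (E₀ : Y.Modules)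
  (hE₀ : FlatMod.IsFinLocFreeOfRank r E₀) (p : (Scheme.Modules.pullback π).obj F ⟶ E₀) [Epi p]
  (hfree : ∀ x : X, ¬ Curv2.IsNode k X x →
    Nonempty (F.presheaf.stalk x ≃ₗ[X.presheaf.stalk x] (Fin r → X.presheaf.stalk x)))

/-- `β`. -/
abbrev beta : F ⟶ (Scheme.Modules.pushforward π).obj E₀ :=
  PushPull.unit π F ≫ (Scheme.Modules.pushforward π).map p

include h hE₀ hfree in
/-- Maps to a direct image of a torsion-free module factor uniquely through `β`. -/
theorem existsUnique (E : Y.Modules) (hE : TorSh.IsTorsionFree E)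
    (f : F ⟶ (Scheme.Modules.pushforward π).obj E) :
    ∃! lam : E₀ ⟶ E, beta F E₀ p ≫ (Scheme.Modules.pushforward π).map lam = f := by
  haveI := QCoh.Pullback.isQCoh_pullback π F
  haveI := CurveBundle.Coherent.isQCoh (Push.isFinLocFree hE₀)
  haveI : (kernel p).IsQuasicoherent := QCoh.Closure.isQCoh_kernel p
  let A := Scheme.Modules.pullbackPushforwardAdjunction π
  let g := (A.homEquiv F E).symm f
  have hg : A.homEquiv F E g = f := Equiv.apply_symm_apply _ f
  have hzero : kernel.ι p ≫ g = 0 := by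
    refine eq_zero_of_push π _ (StalkModule.hom_ext_stalkMapₗ fun x => LinearMap.ext fun v => ?_)
    rw [Functor.map_comp, StalkModule.stalkMapₗ_comp, StalkModule.stalkMapₗ_zero, LinearMap.zero_apply,
      LinearMap.comp_apply]
    obtain ⟨c, hc, hcz⟩ := Node.exists_smul_eq_zero h F E₀ hE₀ p hfree x
      (stalkMapₗ ((Scheme.Modules.pushforward π).map (kernel.ι p)) x v) (by
        rw [← LinearMap.comp_apply, ← StalkModule.stalkMapₗ_comp, ← Functor.map_comp, kernel.condition,
          Functor.map_zero, StalkModule.stalkMapₗ_zero, LinearMap.zero_apply])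
    exact Node.smul_eq_zero h hE hc _ (by rw [← map_smul, hcz, map_zero])
  have hcokPi := Abelian.epiIsCokernelOfKernel _ (kernelIsKernel p)
  let lam : E₀ ⟶ E := hcokPi.desc (CokernelCofork.ofπ g hzero)
  have hlam : p ≫ lam = g := hcokPi.fac (CokernelCofork.ofπ g hzero) WalkingParallelPair.one
  have key : ∀ μ : E₀ ⟶ E, beta F E₀ p ≫ (Scheme.Modules.pushforward π).map μ = A.homEquiv F E (p ≫ μ) :=
    fun μ => by
      rw [Adjunction.homEquiv_unit, Functor.map_comp, Category.assoc]
  refine ⟨lam, ?_, fun μ hμ => ?_⟩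
  · show beta F E₀ p ≫ (Scheme.Modules.pushforward π).map lam = f
    rw [key, hlam, hg]
  · refine (cancel_epi p).1 ?_
    rw [hlam]
    refine (A.homEquiv F E).injective ?_
    rw [← key, hg]
    exact hμ

include h hE₀ hfree in
/-- Every germ of `π_* E₀` is, after multiplication by a non-zero-divisor, in the image of `β`. -/
theorem exists_smul_mem_range {a : X → ℕ} (htype : ∀ x : X, Curv2.IsNode k X x → a x ≤ r ∧
      Nonempty (F.presheaf.stalk x ≃ₗ[X.presheaf.stalk x]
        ((Fin (a x) → X.presheaf.stalk x) × (Fin (r - a x) → IsLocalRing.maximalIdeal (X.presheaf.stalk x)))))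
    (x : X) (t : ((Scheme.Modules.pushforward π).obj E₀).presheaf.stalk x) :
    ∃ f ∈ (X.presheaf.stalk x)⁰, ∃ v, stalkMapₗ (beta F E₀ p) x v = f • t := by
  by_cases hx : Curv2.IsNode k X x
  swap
  · obtain ⟨v, hv⟩ := (Node.beta_bijective h F E₀ hE₀ p hfree ((h.mem_iff x).2 hx)).2 t
    exact ⟨1, one_mem _, v, by rw [one_smul]; exact hv⟩
  obtain ⟨h1, hm, ⟨f₀, hf₀, hf₀'⟩, -⟩ := Node.node_facts h hx
  obtain ⟨e, he⟩ := PushPull.exists_stalk_equiv π F x
  obtain ⟨z, rfl⟩ := Push.surjective_push π F E₀ hE₀ p x t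
  refine ⟨f₀, hf₀', ?_⟩
  have key : ∀ y : ((Coh.push π).obj (Coh.structureModule Y)).presheaf.stalk x ⊗[X.presheaf.stalk x]
      F.presheaf.stalk x, ∃ v, PushPull.one π x ⊗ₜ v = f₀ • y := by
    intro y
    induction y using TensorProduct.induction_on with
    | zero => exact ⟨0, by simp⟩
    | tmul w v =>
      obtain ⟨c, -, hc⟩ := NodeAlg.exists_eq_smul_of_mem h1 hm (w := f₀ • w)
        (Submodule.smul_mem_smul hf₀ Submodule.mem_top)
      exact ⟨c • v, by rw [TensorProduct.smul_tmul', hc, TensorProduct.smul_tmul]⟩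
    | add a b ha hb =>
      obtain ⟨v, hv⟩ := ha
      obtain ⟨w, hw⟩ := hb
      exact ⟨v + w, by rw [TensorProduct.tmul_add, hv, hw, smul_add]⟩
  obtain ⟨v, hv⟩ := key (e z)
  refine ⟨v, ?_⟩
  have h2 : stalkMapₗ (PushPull.unit π F) x v = f₀ • z := e.injective (by rw [he, hv, map_smul])
  rw [StalkModule.stalkMapₗ_comp, LinearMap.comp_apply, h2, map_smul]

include h hE₀ hfree in
/-- Lengths of the cokernels along a factorization of a monomorphism through `β`. -/
theorem length_coker_add {a : X → ℕ} (htype : ∀ x : X, Curv2.IsNode k X x → a x ≤ r ∧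
      Nonempty (F.presheaf.stalk x ≃ₗ[X.presheaf.stalk x]
        ((Fin (a x) → X.presheaf.stalk x) × (Fin (r - a x) → IsLocalRing.maximalIdeal (X.presheaf.stalk x)))))
    (E : Y.Modules) (i : F ⟶ (Scheme.Modules.pushforward π).obj E) [Mono i] (lam : E₀ ⟶ E)
    (hlam : beta F E₀ p ≫ (Scheme.Modules.pushforward π).map lam = i) (x : X) :
    Module.length (X.presheaf.stalk x) ((cokernel i).presheaf.stalk x) =
      Module.length (X.presheaf.stalk x) ((cokernel (beta F E₀ p)).presheaf.stalk x) +
        Module.length (X.presheaf.stalk x)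
          ((cokernel ((Scheme.Modules.pushforward π).map lam)).presheaf.stalk x) := by
  set B := stalkMapₗ (beta F E₀ p) x with hB
  set L := stalkMapₗ ((Scheme.Modules.pushforward π).map lam) x with hL
  have hI : stalkMapₗ i x = L.comp B := by rw [← hlam, StalkModule.stalkMapₗ_comp]
  have hL0 : Function.Injective L := by
    refine (injective_iff_map_eq_zero _).mpr fun t ht => ?_
    obtain ⟨f, hf, v, hv⟩ := exists_smul_mem_range h F E₀ hE₀ p hfree htype x t
    have h0 : stalkMapₗ i x v = 0 := by rw [hI, LinearMap.comp_apply, hv, map_smul, ht, smul_zero]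
    have hv0 : v = 0 := (StalkModule.mono_iff_stalkMapₗ_injective i).1 inferInstance x
      (h0.trans (map_zero _).symm)
    rw [hv0, map_zero] at hv
    exact Node.smul_eq_zero h (CurveBundle.Coherent.isTorsionFree (Push.isFinLocFree hE₀)) hf t hv.symm
  obtain ⟨c₁⟩ := Normalization.CokerStalk.exists_cokernel_stalk_equiv i x
  obtain ⟨c₂⟩ := Normalization.CokerStalk.exists_cokernel_stalk_equiv (beta F E₀ p) x
  obtain ⟨c₃⟩ := Normalization.CokerStalk.exists_cokernel_stalk_equiv ((Scheme.Modules.pushforward π).map lam) x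
  rw [c₁.length_eq, c₂.length_eq, c₃.length_eq]
  have hle : LinearMap.range (stalkMapₗ i x) ≤ LinearMap.range L := by
    rw [hI]; exact LinearMap.range_comp_le_range _ _
  have hcomap : LinearMap.range B = (LinearMap.range (stalkMapₗ i x)).comap L := by
    rw [hI, LinearMap.range_comp, Submodule.comap_map_eq_of_injective hL0]
  let f₁ : (_ ⧸ LinearMap.range B) →ₗ[X.presheaf.stalk x] (_ ⧸ LinearMap.range (stalkMapₗ i x)) :=
    Submodule.mapQ _ _ L hcomap.le
  let f₂ := Submodule.factor hle
  refine Module.length_eq_add_of_exact f₁ f₂ ?_ (Submodule.factor_surjective hle) ?_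
  · rw [← LinearMap.ker_eq_bot, Submodule.ker_mapQ, ← hcomap, Submodule.mkQ_map_self]
  · rw [LinearMap.exact_iff]
    show LinearMap.ker (Submodule.mapQ _ _ LinearMap.id hle) = _
    rw [Submodule.range_mapQ, Submodule.ker_mapQ, Submodule.comap_id]

end Groth.Agent.Lib.TFNodal.Factor
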