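import Groth.Agent.Lib.TFNodal.PushPull
import Groth.Agent.Lib.CurveBundle.Coherent
import Groth.Agent.Lib.DerivedOX.PullbackStalk
import Groth.Agent.Lib.QCoh.Sections
import Groth.Agent.Lib.Flat55.GenericPoints

/-!
# Direct images along a finite birational morphism: torsion, the situation over the good open
-/

set_option autoImplicit false
set_option linter.style.haveILetI false
set_option linter.unusedSectionVars false

universe u

open CategoryTheory CategoryTheory.Limits AlgebraicGeometry TopologicalSpace Opposite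
open scoped nonZeroDivisors TensorProduct

noncomputable section

namespace Groth.Agent.Lib.TFNodal.Push

open Groth.Agent.Lib Groth.Agent.Lib.Modules
open Groth.Agent.Lib.Modules.StalkModule (stalkMapₗ stalkMapₗ_germ)
open Groth.Agent.Lib.DerivedOX.PullbackStalk (pushStalkMap pushStalkMap_germ pushStalkMap_smul
  pushStalkMap_natural)

variable {X Y : Scheme.{u}}

/-- A non-zero-divisor of a stalk stays nonzero at every generization. -/
theorem germ_ne_zero {x η : X} (h : η ⤳ x) {V : X.Opens} (hx : x ∈ V) (r : Γ(X, V))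
    (hr : X.presheaf.germ V x hx r ∈ (X.presheaf.stalk x)⁰) :
    X.presheaf.germ V η (h.mem_open V.2 hx) r ≠ 0 := by
  intro h0
  obtain ⟨V₀, hV₀, hxV₀, hV₀V⟩ := exists_isAffineOpen_mem_and_subset hx
  have hη : η ∈ V₀ := h.mem_open V₀.2 hxV₀
  set r₀ := X.presheaf.map (homOfLE hV₀V).op r
  have e1 : X.presheaf.germ V₀ η hη r₀ = 0 :=
    (TopCat.Presheaf.germ_res_apply X.presheaf (homOfLE hV₀V) η hη r).trans h0
  have e2 : X.presheaf.germ V₀ x hxV₀ r₀ = X.presheaf.germ V x hx r :=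
    TopCat.Presheaf.germ_res_apply X.presheaf (homOfLE hV₀V) x hxV₀ r
  haveI := hV₀.isLocalization_stalk ⟨η, hη⟩
  letI : Algebra Γ(X, V₀) (X.presheaf.stalk η) :=
    TopCat.Presheaf.algebra_section_stalk X.presheaf (⟨η, hη⟩ : V₀)
  obtain ⟨⟨s, hs⟩, hsr⟩ := (IsLocalization.map_eq_zero_iff
    (hV₀.primeIdealOf ⟨η, hη⟩).asIdeal.primeCompl (X.presheaf.stalk η) r₀).mp e1
  have hu : IsUnit (X.presheaf.germ V₀ η hη s) :=
    IsLocalization.map_units (X.presheaf.stalk η)
      (⟨s, hs⟩ : (hV₀.primeIdealOf ⟨η, hη⟩).asIdeal.primeCompl)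
  have h3 : X.presheaf.germ V₀ x hxV₀ s * X.presheaf.germ V₀ x hxV₀ r₀ = 0 := by
    rw [← map_mul, show s * r₀ = 0 from hsr, map_zero]
  rw [e2, mul_right_mem_nonZeroDivisors_eq_zero_iff hr] at h3
  obtain ⟨W, hxW, i₁, i₂, hW⟩ := TopCat.Presheaf.germ_eq X.presheaf x hxV₀ hxV₀ s 0
    (by rw [h3, map_zero])
  have hηW : η ∈ W := h.mem_open W.2 hxW
  rw [← TopCat.Presheaf.germ_res_apply X.presheaf i₁ η hηW s, hW, map_zero] at hu
  · rw [map_zero] at hu
    exact not_isUnit_zero hu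

variable (π : Y ⟶ X) {U : X.Opens}

set_option backward.isDefEq.respectTransparency false in
theorem bijective_stalkMap [IsIso (π ∣_ U)] {y : Y} (hy : π y ∈ U) :
    Function.Bijective (π.stalkMap y).hom := by
  haveI : IsOpenImmersion (π ∣_ U) := inferInstance
  haveI h1 : IsIso ((π ∣_ U).stalkMap (⟨y, hy⟩ : (π ⁻¹ᵁ U : Scheme.{u}))) :=
    inferInstance
  haveI : IsIso (π.stalkMap y) :=
    ((MorphismProperty.isomorphisms CommRingCat.{u}).arrow_mk_iso_iff
      (morphismRestrictStalkMap π U ⟨y, hy⟩)).mp h1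
  exact ConcreteCategory.bijective_of_isIso (π.stalkMap y)

/-- Over a non-zero-divisor the stalks upstairs stay nonzero. -/
theorem stalkMap_ne_zero [NoetherianSpace Y] [IsIso (π ∣_ U)]
    (hU' : Dense ((π ⁻¹ᵁ U : Y.Opens) : Set Y)) {y : Y} {f : X.presheaf.stalk (π y)}
    (hf : f ∈ (X.presheaf.stalk (π y))⁰) : (π.stalkMap y).hom f ≠ 0 := by
  intro h0
  obtain ⟨η', hη', hC⟩ := Flat55.GenericPoints.exists_closure_eq
    (irreducibleComponent_mem_irreducibleComponents y)
  have hy : η' ⤳ y := specializes_iff_mem_closure.mpr (hC.ge mem_irreducibleComponent)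
  have hU : π η' ∈ U := Curves.NormStalk.generic_mem_dense hU' hη'
  obtain ⟨V, hxV, r, rfl⟩ := TopCat.Presheaf.exists_germ_eq X.presheaf f
  have hπ : π η' ⤳ π y := hy.map π.continuous
  refine germ_ne_zero hπ hxV r hf ((bijective_stalkMap π hU).1 ?_)
  have e1 : Y.presheaf.germ (π ⁻¹ᵁ V) y hxV (π.app V r) = 0 :=
    (Scheme.Hom.germ_stalkMap_apply π V y hxV r).symm.trans h0
  obtain ⟨W, hyW, i₁, i₂, hW⟩ := TopCat.Presheaf.germ_eq Y.presheaf (U := π ⁻¹ᵁ V) (V := π ⁻¹ᵁ V) y hxV hxV (π.app V r) 0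
    (by rw [e1, map_zero])
  rw [map_zero]
  refine (Scheme.Hom.germ_stalkMap_apply π V η' (hπ.mem_open V.2 hxV) r).trans ?_
  rw [← TopCat.Presheaf.germ_res_apply Y.presheaf i₁ η' (hy.mem_open W.2 hyW), hW, map_zero,
    map_zero]

/-- A finite set of germs detects sections near a fibre of a closed map. -/
theorem eq_zero_of_pushStalkMap [IsFinite π] (E : Y.Modules) {x : X}
    (t : ((Scheme.Modules.pushforward π).obj E).presheaf.stalk x)
    (h : ∀ (y : Y) (hy : π y = x), pushStalkMap π y E (hy ▸ t) = 0) : t = 0 := by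
  obtain ⟨V, hxV, s, rfl⟩ := TopCat.Presheaf.exists_germ_eq _ t
  let s' : Γ(E, π ⁻¹ᵁ V) := s
  have hz : ∀ y : Y, π y = x → ∃ O : Y.Opens, y ∈ O ∧ ∃ hO : O ≤ π ⁻¹ᵁ V,
      E.presheaf.map (homOfLE hO).op s' = 0 := by
    intro y hy
    subst hy
    have h1 : E.presheaf.germ (π ⁻¹ᵁ V) y hxV s' = 0 :=
      (pushStalkMap_germ π y E hxV s).symm.trans (h y rfl)
    obtain ⟨O, hyO, i₁, i₂, hO⟩ := TopCat.Presheaf.germ_eq E.presheaf (U := π ⁻¹ᵁ V) (V := π ⁻¹ᵁ V) y hxV hxV s' 0
      (by rw [h1, map_zero])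
    exact ⟨O, hyO, i₁.le, hO.trans (map_zero _)⟩
  choose O hyO hOV hO using hz
  let Ω : Y.Opens := ⨆ (y : Y) (hy : π y = x), O y hy
  have hcl : IsClosed (π '' (Ω : Set Y)ᶜ) := π.isClosedMap _ Ω.2.isClosed_compl
  let W : X.Opens := V ⊓ ⟨(π '' (Ω : Set Y)ᶜ)ᶜ, hcl.isOpen_compl⟩
  have hxW : x ∈ W := by
    refine ⟨hxV, ?_⟩
    rintro ⟨y, hy, rfl⟩
    exact hy (Opens.mem_iSup.2 ⟨y, Opens.mem_iSup.2 ⟨rfl, hyO y rfl⟩⟩)
  rw [← TopCat.Presheaf.germ_res_apply _ (homOfLE (inf_le_left : W ≤ V)) x hxW s]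
  refine (congrArg _ ?_).trans (map_zero _)
  show E.presheaf.map (homOfLE (π.preimage_mono inf_le_left)).op s' = 0
  refine TensorSec.section_ext E _ _ fun z hz => ?_
  have hzΩ : z ∈ Ω := by
    by_contra hn
    exact hz.2 ⟨z, hn, rfl⟩
  simp only [Ω, Opens.mem_iSup] at hzΩ
  obtain ⟨y, hy, hzO⟩ := hzΩ
  refine ⟨(π ⁻¹ᵁ W) ⊓ O y hy, inf_le_left, ⟨hz, hzO⟩, ?_⟩
  show E.presheaf.map (homOfLE inf_le_left).op (E.presheaf.map _ s') =
    E.presheaf.map (homOfLE inf_le_left).op 0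
  rw [map_zero, ← ConcreteCategory.comp_apply, ← Functor.map_comp]
  show E.presheaf.map ((homOfLE (hOV y hy)).op ≫
    (homOfLE (inf_le_right : (π ⁻¹ᵁ W) ⊓ O y hy ≤ O y hy)).op) s' = 0
  rw [Functor.map_comp, ConcreteCategory.comp_apply, hO, map_zero]

/-- Direct images of torsion-free modules are torsion-free. -/
theorem smul_eq_zero [IsFinite π] [NoetherianSpace Y] [IsIso (π ∣_ U)]
    (hU' : Dense ((π ⁻¹ᵁ U : Y.Opens) : Set Y)) (hdom : ∀ y : Y, IsDomain (Y.presheaf.stalk y))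
    (E : Y.Modules) (hE : TorSh.IsTorsionFree E) {x : X} {f : X.presheaf.stalk x}
    (hf : f ∈ (X.presheaf.stalk x)⁰) (t : ((Scheme.Modules.pushforward π).obj E).presheaf.stalk x)
    (h : f • t = 0) : t = 0 := by
  refine eq_zero_of_pushStalkMap π E t fun y hy => ?_
  subst hy
  haveI := hdom y
  have h1 : (π.stalkMap y).hom f • pushStalkMap π y E t = 0 := by
    rw [← pushStalkMap_smul, h, map_zero]
  exact (hE y).isSMulRegular (IsRegular.of_ne_zero (stalkMap_ne_zero π hU' hf))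
    (h1.trans (smul_zero _).symm)

/-- Over `U` the stalk upstairs is a quotient of the stalk of the direct image. -/
theorem pushStalkMap_surjective [IsIso (π ∣_ U)] (E : Y.Modules) {y : Y} (hy : π y ∈ U) :
    Function.Surjective (pushStalkMap π y E) := by
  intro v
  obtain ⟨O, hyO, s, rfl⟩ := TopCat.Presheaf.exists_germ_eq E.presheaf v
  let h := (asIso (π ∣_ U)).hom.homeomorph
  let W₀ : (U : Scheme.{u}).Opens :=
    ⟨h '' ((π ⁻¹ᵁ U).ι ⁻¹ᵁ O : Set _), h.isOpenMap _ ((π ⁻¹ᵁ U).ι ⁻¹ᵁ O).2⟩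
  let W : X.Opens := U.ι ''ᵁ W₀
  have hle : π ⁻¹ᵁ W ≤ O := by
    rintro z ⟨⟨w, hwU⟩, ⟨z', hz', hzw⟩, hwz⟩
    have hzU : π z ∈ U := hwz ▸ hwU
    have e : h ⟨z, hzU⟩ = h z' := by
      rw [hzw]
      exact Subtype.ext ((morphismRestrict_base_coe π U ⟨z, hzU⟩).trans hwz.symm)
    have e' : z = z'.1 := congrArg Subtype.val (h.injective e)
    rw [e']
    exact hz'
  have hyW : π y ∈ W := ⟨h ⟨y, hy⟩, ⟨⟨y, hy⟩, hyO, rfl⟩, morphismRestrict_base_coe π U ⟨y, hy⟩⟩
  let s' : Γ((Scheme.Modules.pushforward π).obj E, W) := E.presheaf.map (homOfLE hle).op s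
  exact ⟨((Scheme.Modules.pushforward π).obj E).presheaf.germ W (π y) hyW s',
    (pushStalkMap_germ π y E hyW s').trans
      (TopCat.Presheaf.germ_res_apply E.presheaf (homOfLE hle) y hyW s)⟩

section kernel

/-- Being locally free of rank `n` is being finite locally free. -/
theorem isFinLocFree {n : ℕ} {M : Y.Modules} (h : FlatMod.IsFinLocFreeOfRank n M) :
    FlatMod.IsFinLocFree M := fun y => by
  obtain ⟨W, hy, hi⟩ := h y
  exact ⟨W, n, hy, hi⟩

variable [IsFinite π] (F : X.Modules) [F.IsQuasicoherent] {r : ℕ} (E₀ : Y.Modules)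
  (hE₀ : FlatMod.IsFinLocFreeOfRank r E₀) (p : (Scheme.Modules.pullback π).obj F ⟶ E₀) [Epi p]

include hE₀ in
theorem surjective_push (x : X) :
    Function.Surjective (stalkMapₗ ((Scheme.Modules.pushforward π).map p) x) := by
  haveI := QCoh.Pullback.isQCoh_pullback π F
  haveI := CurveBundle.Coherent.isQCoh (isFinLocFree hE₀)
  exact (StalkModule.epi_iff_stalkMapₗ_surjective _).1 (QCoh.Sections.epi_pushforward_map π p) x

omit [Epi p] in
/-- Over `U` the unit is surjective. -/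
theorem unit_surjective [IsIso (π ∣_ U)] {x : X} (hx : x ∈ U)
    (hone : ∀ w : ((Coh.push π).obj (Coh.structureModule Y)).presheaf.stalk x,
      ∃ c : X.presheaf.stalk x, c • PushPull.one π x = w) :
    Function.Surjective (stalkMapₗ (PushPull.unit π F) x) := by
  obtain ⟨e, he⟩ := PushPull.exists_stalk_equiv π F x
  intro z
  suffices h : ∀ t, ∃ v, PushPull.one π x ⊗ₜ v = t by
    obtain ⟨v, hv⟩ := h (e z)
    exact ⟨v, e.injective ((he v).trans hv)⟩
  intro t
  induction t using TensorProduct.induction_on with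
  | zero => exact ⟨0, TensorProduct.tmul_zero _ _⟩
  | tmul w v =>
    obtain ⟨c, rfl⟩ := hone w
    exact ⟨c • v, (TensorProduct.smul_tmul _ _ _).symm⟩
  | add a b ha hb =>
    obtain ⟨v, rfl⟩ := ha
    obtain ⟨w, rfl⟩ := hb
    exact ⟨v + w, TensorProduct.tmul_add _ _ _⟩

include hE₀ in
/-- Over `U` the quotient `π_* π^* F → π_* E₀` is injective. -/
theorem injective_push [IsIso (π ∣_ U)] {x : X} (hx : x ∈ U)
    (hone : ∀ w : ((Coh.push π).obj (Coh.structureModule Y)).presheaf.stalk x,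
      ∃ c : X.presheaf.stalk x, c • PushPull.one π x = w)
    (φ : F.presheaf.stalk x ≃ₗ[X.presheaf.stalk x] (Fin r → X.presheaf.stalk x)) :
    Function.Injective (stalkMapₗ ((Scheme.Modules.pushforward π).map p) x) := by
  obtain ⟨y', hy'⟩ := (asIso (π ∣_ U)).hom.homeomorph.surjective ⟨x, hx⟩
  have hy : π y'.1 = x := (morphismRestrict_base_coe π U y').symm.trans (congrArg Subtype.val hy')
  generalize y'.1 = y at hy
  subst hy
  have hu := unit_surjective π F hx hone
  let σ := RingEquiv.ofBijective (π.stalkMap y).hom (bijective_stalkMap π hx)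
  obtain ⟨b⟩ := CurveBundle.Coherent.exists_basis_stalk hE₀ y
  let c : F.presheaf.stalk (π y) → E₀.presheaf.stalk y := fun v =>
    pushStalkMap π y E₀ (stalkMapₗ ((Scheme.Modules.pushforward π).map p) (π y)
      (stalkMapₗ (PushPull.unit π F) (π y) v))
  have hc : Function.Surjective c :=
    (pushStalkMap_surjective π E₀ hx).comp ((surjective_push π F E₀ hE₀ p _).comp hu)
  have hcsmul : ∀ a v, c (a • v) = σ a • c v := fun a v => by
    simp only [c, map_smul]
    exact pushStalkMap_smul π y E₀ a _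
  let ψ : (Fin r → X.presheaf.stalk (π y)) →ₗ[X.presheaf.stalk (π y)]
      (Fin r → X.presheaf.stalk (π y)) :=
    { toFun := fun w i => σ.symm (b.equivFun (c (φ.symm w)) i)
      map_add' := fun w w' => funext fun i => by
        simp only [c, map_add, Pi.add_apply]
      map_smul' := fun a w => funext fun i => by
        simp only [map_smul, hcsmul, Pi.smul_apply, smul_eq_mul, map_mul, σ.symm_apply_apply,
          RingHom.id_apply] }
  have hψs : Function.Surjective ψ := fun w => by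
    obtain ⟨v, hv⟩ := hc (b.equivFun.symm fun i => σ (w i))
    refine ⟨φ v, funext fun i => ?_⟩
    show σ.symm (b.equivFun (c (φ.symm (φ v))) i) = w i
    rw [φ.symm_apply_apply, hv, LinearEquiv.apply_symm_apply, σ.symm_apply_apply]
  have hψ : Function.Injective ψ := OrzechProperty.injective_of_surjective_endomorphism ψ hψs
  intro z z' hzz'
  obtain ⟨v, rfl⟩ := hu z
  obtain ⟨v', rfl⟩ := hu z'
  refine congrArg _ (φ.injective (hψ (funext fun i => ?_)))
  show σ.symm (b.equivFun (c (φ.symm (φ v))) i) = σ.symm (b.equivFun (c (φ.symm (φ v'))) i)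
  rw [φ.symm_apply_apply, φ.symm_apply_apply, show c v = c v' from congrArg (pushStalkMap π y E₀) hzz']

end kernel

end Groth.Agent.Lib.TFNodal.Push
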