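import Groth.Agent.Lib.StalkLoc.Basic
import Groth.Agent.Lib.ZarCoh.FlatBC.PullbackSections
import Groth.Agent.Lib.QCoh.Pushforward
import Groth.Agent.Lib.QCoh.Pullback
import Groth.Agent.Lib.Curves.NormStalk
import Mathlib.RingTheory.Localization.BaseChange

/-!
# The stalks of `π_* π^* F` for an affine morphism `π`

`(π_* π^* F)_x = (π_* O)_x ⊗ F_x`, the unit being `v ↦ 1 ⊗ v`.
-/

set_option autoImplicit false
set_option linter.style.haveILetI false

universe u

open CategoryTheory CategoryTheory.Limits AlgebraicGeometry TopologicalSpace Opposite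
open scoped TensorProduct

noncomputable section

namespace Groth.Agent.Lib.TFNodal.PushPull

open Groth.Agent.Lib Groth.Agent.Lib.Modules
open Groth.Agent.Lib.Modules.StalkModule (stalkMapₗ stalkMapₗ_germ)
open Groth.Agent.Lib.StalkLoc.Basic (moduleSections germₗ isLocalizedModule_germ isScalarTower_sections)
open ZarCoh.FlatBC.PullbackSections

variable {X Y : Scheme.{u}} (π : Y ⟶ X) (F : X.Modules)

/-- The unit `F ⟶ π_* π^* F`. -/
abbrev unit : F ⟶ (Scheme.Modules.pushforward π).obj ((Scheme.Modules.pullback π).obj F) :=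
  (Scheme.Modules.pullbackPushforwardAdjunction π).unit.app F

/-- The germ of `1` in `(π_* O)_x`. -/
abbrev one (x : X) : ((Coh.push π).obj (Coh.structureModule Y)).presheaf.stalk x :=
  stalkMapₗ (ClSub.unitToPush π) x
    ((Coh.structureModule X).presheaf.germ ⊤ x trivial (Curves.NormStalk.oneTop X))

theorem one_eq_germ (x : X) (V : X.Opens) (hx : x ∈ V) :
    one π x = ((Coh.push π).obj (Coh.structureModule Y)).presheaf.germ V x hx
      (show Γ(Y, π ⁻¹ᵁ V) from 1) := by
  rw [one, ← TopCat.Presheaf.germ_res_apply (Coh.structureModule X).presheaf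
    (homOfLE (le_top : V ≤ ⊤)) x hx, stalkMapₗ_germ]
  refine congrArg (((Coh.push π).obj (Coh.structureModule Y)).presheaf.germ V x hx) ?_
  show π.app V (X.presheaf.map (homOfLE le_top).op (1 : Γ(X, ⊤))) = (1 : Γ(Y, π ⁻¹ᵁ V))
  rw [map_one, map_one]

/-- `(π_* π^* F)_x = (π_* O)_x ⊗ F_x`. -/
theorem exists_stalk_equiv [IsAffineHom π] [F.IsQuasicoherent] (x : X) :
    ∃ e : ((Scheme.Modules.pushforward π).obj ((Scheme.Modules.pullback π).obj F)).presheaf.stalk x
        ≃ₗ[X.presheaf.stalk x]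
        ((Coh.push π).obj (Coh.structureModule Y)).presheaf.stalk x ⊗[X.presheaf.stalk x] F.presheaf.stalk x,
      ∀ v, e (stalkMapₗ (unit π F) x v) = one π x ⊗ₜ v := by
  obtain ⟨V, hV, hxV, -⟩ := exists_isAffineOpen_mem_and_subset (show x ∈ (⊤ : X.Opens) from trivial)
  have hV' : IsAffineOpen (π ⁻¹ᵁ V) := hV.preimage π
  let P := (Coh.push π).obj (Coh.structureModule Y)
  let N := (Scheme.Modules.pushforward π).obj ((Scheme.Modules.pullback π).obj F)
  haveI : ((Scheme.Modules.pullback π).obj F).IsQuasicoherent := QCoh.Pullback.isQCoh_pullback π F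
  haveI : N.IsQuasicoherent :=
    QCoh.Pushforward.isQCoh_pushforward π (M := (Scheme.Modules.pullback π).obj F)
  haveI : (Coh.structureModule Y).IsQuasicoherent := TensorMod.QCohInv.isQCoh_structureModule Y
  haveI : P.IsQuasicoherent := QCoh.Pushforward.isQCoh_pushforward π (M := Coh.structureModule Y)
  let A := Γ(X, V)
  let R := X.presheaf.stalk x
  letI : Algebra A R := TopCat.Presheaf.algebra_section_stalk X.presheaf (⟨x, hxV⟩ : V)
  haveI hloc : IsLocalization.AtPrime R (hV.primeIdealOf ⟨x, hxV⟩).asIdeal :=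
    hV.isLocalization_stalk ⟨x, hxV⟩
  letI : Module A (P.presheaf.stalk x) := moduleSections P hxV
  letI : Module A (N.presheaf.stalk x) := moduleSections N hxV
  letI : Module A (F.presheaf.stalk x) := moduleSections F hxV
  haveI : IsScalarTower A R (P.presheaf.stalk x) := isScalarTower_sections P hxV
  haveI : IsScalarTower A R (N.presheaf.stalk x) := isScalarTower_sections N hxV
  haveI : IsScalarTower A R (F.presheaf.stalk x) := isScalarTower_sections F hxV
  set S := (hV.primeIdealOf ⟨x, hxV⟩).asIdeal.primeCompl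
  haveI : IsLocalizedModule S (germₗ P hxV) := isLocalizedModule_germ hV hxV
  haveI : IsLocalizedModule S (germₗ N hxV) := isLocalizedModule_germ hV hxV
  haveI : IsLocalizedModule S (germₗ F hxV) := isLocalizedModule_germ hV hxV
  -- sections over `V`
  letI : Algebra A Γ(Y, π ⁻¹ᵁ V) := (π.appLE V (π ⁻¹ᵁ V) le_rfl).hom.toAlgebra
  have happ : ∀ a : A, π.appLE V (π ⁻¹ᵁ V) le_rfl a = π.app V a := fun a => by
    rw [Scheme.Hom.appLE_eq_app]
  let toN : Γ((Scheme.Modules.pullback π).obj F, π ⁻¹ᵁ V) → Γ(N, V) := fun t => t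
  let toP : Γ(Y, π ⁻¹ᵁ V) → Γ(P, V) := fun t => t
  let ψ : Γ(Y, π ⁻¹ᵁ V) ⊗[A] Γ(F, V) →ₗ[A] Γ(N, V) :=
    { toFun := fun z => toN (pbTensor π F (U := V) (V := π ⁻¹ᵁ V) le_rfl z)
      map_add' := fun z z' => map_add (pbTensor π F (U := V) (V := π ⁻¹ᵁ V) le_rfl) z z'
      map_smul' := fun a z => by
        rw [← algebraMap_smul Γ(Y, π ⁻¹ᵁ V) a z, map_smul]
        show toN (π.appLE V (π ⁻¹ᵁ V) le_rfl a • _) = _
        rw [happ]
        rfl }
  have hψ : Function.Bijective ψ := bijective_pbTensor π F hV hV' le_rfl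
  let ι : Γ(Y, π ⁻¹ᵁ V) →ₗ[A] Γ(P, V) :=
    { toFun := toP
      map_add' := fun _ _ => rfl
      map_smul' := fun a b => by
        show toP (π.appLE V (π ⁻¹ᵁ V) le_rfl a * b) = _
        rw [happ]
        rfl }
  let g₁ := (germₗ P hxV).comp ι
  haveI : IsLocalizedModule S g₁ := IsLocalizedModule.of_linearEquiv_right S (germₗ P hxV)
    (LinearEquiv.ofBijective ι ⟨fun _ _ h => h, fun b => ⟨b, rfl⟩⟩)
  let g₂ := (germₗ N hxV).comp ψ
  haveI : IsLocalizedModule S g₂ := IsLocalizedModule.of_linearEquiv_right S (germₗ N hxV)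
    (LinearEquiv.ofBijective ψ hψ)
  let e₀ := IsLocalizedModule.linearEquiv S g₂ (TensorProduct.map g₁ (germₗ F hxV))
  let e₁ := e₀.trans ((IsLocalization.moduleTensorEquiv S R (P.presheaf.stalk x)
    (F.presheaf.stalk x)).restrictScalars A).symm
  refine ⟨e₁.extendScalarsOfIsLocalization S R, fun v => ?_⟩
  show e₁ (stalkMapₗ (unit π F) x v) = _
  obtain ⟨⟨m, s⟩, hms⟩ := IsLocalizedModule.surj S (germₗ F hxV) v
  let L : F.presheaf.stalk x →ₗ[A] P.presheaf.stalk x ⊗[R] F.presheaf.stalk x :=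
    e₁.toLinearMap.comp ((stalkMapₗ (unit π F) x).restrictScalars A)
  let L' : F.presheaf.stalk x →ₗ[A] P.presheaf.stalk x ⊗[R] F.presheaf.stalk x :=
    (TensorProduct.mk R (P.presheaf.stalk x) (F.presheaf.stalk x) (one π x)).restrictScalars A
  refine LinearMap.congr_fun (?_ : L = L') v
  refine IsLocalizedModule.ext S (germₗ F hxV) (fun s => ?_) (LinearMap.ext fun m => ?_)
  · rw [Module.End.isUnit_iff]
    have hu := IsLocalization.map_units R s
    obtain ⟨r, hr⟩ := hu.exists_left_inv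
    refine Function.bijective_iff_has_inverse.2 ⟨fun n => r • n, fun n => ?_, fun n => ?_⟩
    · show r • (s : A) • n = n
      rw [← algebraMap_smul R (s : A) n, smul_smul, hr, one_smul]
    · show (s : A) • r • n = n
      rw [← algebraMap_smul R (s : A) (r • n), smul_smul, mul_comm, hr, one_smul]
  show e₁ (stalkMapₗ (unit π F) x (F.presheaf.germ V x hxV m)) = one π x ⊗ₜ F.presheaf.germ V x hxV m
  rw [stalkMapₗ_germ]
  have h1 : (unit π F).app V m = ψ ((1 : Γ(Y, π ⁻¹ᵁ V)) ⊗ₜ m) := by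
    show _ = toN (pbTensor π F (U := V) (V := π ⁻¹ᵁ V) le_rfl ((1 : Γ(Y, π ⁻¹ᵁ V)) ⊗ₜ m))
    rw [pbTensor_tmul, one_smul]
    show _ = ((Scheme.Modules.pullback π).obj F).presheaf.map (homOfLE le_rfl).op
      ((unit π F).app V m)
    rw [show (homOfLE (le_rfl : π ⁻¹ᵁ V ≤ π ⁻¹ᵁ V)).op = 𝟙 _ from rfl,
      ((Scheme.Modules.pullback π).obj F).presheaf.map_id]
    rfl
  rw [h1]
  show ((IsLocalization.moduleTensorEquiv S R (P.presheaf.stalk x)
    (F.presheaf.stalk x)).restrictScalars A).symm (e₀ (g₂ ((1 : Γ(Y, π ⁻¹ᵁ V)) ⊗ₜ m))) = _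
  rw [show e₀ (g₂ ((1 : Γ(Y, π ⁻¹ᵁ V)) ⊗ₜ m)) = TensorProduct.map g₁ (germₗ F hxV) (1 ⊗ₜ m) from
    IsLocalizedModule.linearEquiv_apply S _ _ _, TensorProduct.map_tmul]
  rw [LinearEquiv.symm_apply_eq, one_eq_germ π x V hxV]
  rfl

end Groth.Agent.Lib.TFNodal.PushPull
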