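import Groth.Agent.Lib.Depth.Basic
import Mathlib.RingTheory.TensorProduct.Basic

/-!
# Depth of a module extended along an algebra with a retraction cut out by one element
-/

set_option autoImplicit false

universe u

open RingTheory.Sequence
open scoped TensorProduct

namespace Groth.Agent.Lib.TFNodal.RetractDepth

variable {A B M : Type u} [CommRing A] [CommRing B] [Algebra A B] [AddCommGroup M] [Module A M]

/-- If `q : B → A` is a retraction of `A → B` with kernel `(t)` for a regular `t` and `a` is regular
on `M`, then `t, a` is a regular sequence on `B ⊗[A] M`. -/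
theorem isWeaklyRegular (q : B →ₐ[A] A) {t : B} (hker : RingHom.ker q = Ideal.span {t})
    (ht : IsSMulRegular B t) {a : A} (ha : IsSMulRegular M a) :
    IsWeaklyRegular (B ⊗[A] M) [t, algebraMap A B a] := by
  have hex : ∀ b : B, ∃ r : B, b - algebraMap A B (q b) = t * r := fun b => by
    have h : b - algebraMap A B (q b) ∈ RingHom.ker q := by
      rw [RingHom.mem_ker, map_sub, AlgHom.commutes, Algebra.algebraMap_self_apply, sub_self]
    rw [hker, Ideal.mem_span_singleton'] at h
    obtain ⟨r, hr⟩ := h
    exact ⟨r, by rw [← hr, mul_comm]⟩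
  choose r hr using hex
  let R : B →ₗ[A] B :=
    { toFun := r
      map_add' := fun x y => ht (show t • r (x + y) = t • (r x + r y) by
        rw [smul_eq_mul, smul_eq_mul, mul_add, ← hr, ← hr, ← hr, map_add, map_add]; abel)
      map_smul' := fun c x => ht (show t • r (c • x) = t • (c • r x) by
        rw [smul_eq_mul, smul_eq_mul, Algebra.smul_def, Algebra.smul_def, ← hr, map_mul,
          AlgHom.commutes, Algebra.algebraMap_self_apply, map_mul,
          mul_left_comm t, ← hr, mul_sub]) }
  let RM := R.rTensor M
  let p : B ⊗[A] M →ₗ[A] M := (TensorProduct.lid A M).toLinearMap ∘ₗ q.toLinearMap.rTensor M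
  have hp : ∀ b m, p (b ⊗ₜ[A] m) = q b • m := fun b m => by simp [p]
  have hsplit : ∀ x : B ⊗[A] M, x = (1 : B) ⊗ₜ[A] p x + t • RM x := by
    intro x
    induction x using TensorProduct.induction_on with
    | zero => simp
    | tmul b m =>
      rw [hp, TensorProduct.tmul_smul, TensorProduct.smul_tmul',
        ← Algebra.algebraMap_eq_smul_one]
      show b ⊗ₜ[A] m = _ + t • (r b ⊗ₜ[A] m)
      rw [TensorProduct.smul_tmul', smul_eq_mul, ← hr, ← TensorProduct.add_tmul, add_sub_cancel]
    | add x y hx hy =>
      conv_lhs => rw [hx, hy]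
      rw [map_add, map_add, TensorProduct.tmul_add, smul_add]; abel
  have hq : q t = 0 := by
    rw [← RingHom.mem_ker, hker]; exact Ideal.mem_span_singleton_self t
  have hpb : ∀ (b : B) (x : B ⊗[A] M), p (b • x) = q b • p x := by
    intro b x
    induction x using TensorProduct.induction_on with
    | zero => simp
    | tmul c m => rw [TensorProduct.smul_tmul', smul_eq_mul, hp, hp, map_mul, mul_smul]
    | add x y hx hy => rw [smul_add, map_add, map_add, hx, hy, smul_add]
  have hRt : ∀ x : B ⊗[A] M, RM (t • x) = x := by
    intro x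
    induction x using TensorProduct.induction_on with
    | zero => simp
    | tmul c m =>
      rw [TensorProduct.smul_tmul']
      show r (t • c) ⊗ₜ[A] m = c ⊗ₜ[A] m
      congr 1
      refine ht (show t • r (t • c) = t • c from ?_)
      rw [smul_eq_mul t (r _), ← hr, smul_eq_mul, map_mul, hq, zero_mul, map_zero, sub_zero]
    | add x y hx hy => rw [smul_add, map_add, hx, hy]
  rw [isWeaklyRegular_cons_iff, isWeaklyRegular_cons_iff]
  refine ⟨fun x y h => ?_, ?_, IsWeaklyRegular.nil _ _⟩
  · rw [← hRt x, ← hRt y]; exact congrArg RM h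
  · rw [isSMulRegular_iff_right_eq_zero_of_smul]
    intro z hz
    obtain ⟨x, rfl⟩ := Submodule.Quotient.mk_surjective _ z
    rw [← Submodule.Quotient.mk_smul, Submodule.Quotient.mk_eq_zero] at hz
    rw [Submodule.Quotient.mk_eq_zero]
    obtain ⟨y, -, hy⟩ := Submodule.mem_smul_pointwise_iff_exists _ _ _ |>.1 hz
    have h0 : a • p x = 0 := by
      have := congrArg p hy
      rw [hpb, hpb, hq, zero_smul, AlgHom.commutes] at this
      exact this.symm
    have hpx : p x = 0 := ha (show a • p x = a • 0 by rw [h0, smul_zero])
    rw [hsplit x, hpx, TensorProduct.tmul_zero, zero_add]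
    exact Submodule.smul_mem_pointwise_smul _ t _ Submodule.mem_top

theorem two_le_depth [IsLocalRing B] (q : B →ₐ[A] A) {t : B}
    (hker : RingHom.ker q = Ideal.span {t}) (ht : IsSMulRegular B t)
    (htm : t ∈ IsLocalRing.maximalIdeal B) {a : A} (ha : IsSMulRegular M a)
    (ham : algebraMap A B a ∈ IsLocalRing.maximalIdeal B) :
    2 ≤ LocCoh.depth B (B ⊗[A] M) := by
  have h := Depth.Basic.length_le_idealDepth (I := IsLocalRing.maximalIdeal B)
    (isWeaklyRegular q hker ht ha) (fun r hr => by
      rcases List.mem_cons.1 hr with rfl | hr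
      · exact htm
      · rw [List.mem_singleton.1 hr]; exact ham)
  exact_mod_cast h

end Groth.Agent.Lib.TFNodal.RetractDepth
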